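import Mathlib.NumberTheory.Divisors
import Mathlib.Algebra.BigOperators.Ring.Finset
import Mathlib.Data.Nat.Prime.Basic
import Mathlib.Data.Nat.ModEq
import Mathlib.Tactic.Linarith
import Mathlib.Tactic.Ring
import Mathlib.Tactic.IntervalCases
import Mathlib.Tactic.NormNum.Prime
import Cfsg.Agent.EqLemmas
import Cfsg.Agent.S1546

/-!
# Peterfalvi section 14: arithmetic (owner: helper65)

* `full_geom` : facts on `N = (p ^ q - 1) / (p - 1)`
* `order_eq` : `h = u` and `u = N` from a bound on `h`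
* `v_big`, `v_energy`, `conj_eq`, `coprime_of_full`
-/

set_option autoImplicit false

namespace Cfsg.Agent.Peterfalvi.Sec14

/-- Facts on `(p ^ q - 1) / (p - 1)`. -/
theorem full_geom {p q u : ℕ} (hp : 2 ≤ p) (hq : 2 ≤ q) (hu : u * (p - 1) = p ^ q - 1) :
    u % p = 1 ∧ u % 2 = (∑ i ∈ Finset.range q, p ^ i) % 2 ∧ p ^ (q - 1) + 1 ≤ u := by
  have hN : u = ∑ i ∈ Finset.range q, p ^ i := by
    rw [Nat.geomSum_eq hp, ← hu, Nat.mul_div_cancel _ (by omega)]
  obtain ⟨n, rfl⟩ : ∃ n, q = n + 2 := ⟨q - 2, by omega⟩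
  refine ⟨?_, by rw [hN], ?_⟩
  · rw [hN, Finset.sum_range_succ', pow_zero, Finset.sum_congr rfl (fun i _ => pow_succ' p i),
      ← Finset.mul_sum, Nat.mul_add_mod, Nat.one_mod_eq_one.2 (by omega)]
  · rw [hN, Finset.sum_range_succ, show n + 2 - 1 = n + 1 from rfl, Finset.sum_range_succ', pow_zero]
    omega

theorem mod_eq_of_mul {a b m : ℕ} (hb : b % m = 1) (hab : (a * b) % m = 1) : a % m = 1 := by
  rw [Nat.mul_mod, hb, mul_one, Nat.mod_mod] at hab
  exact hab

theorem sq_le_three_pow (n : ℕ) (hn : 4 ≤ n) : (n + 3) ^ 2 ≤ 3 ^ n := by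
  induction n, hn using Nat.le_induction with
  | base => norm_num
  | succ m hm ih =>
    rw [pow_succ 3 m]
    nlinarith

theorem pow_bound {p q : ℕ} (hp : 7 ≤ p) (hq : 3 ≤ q) : p ^ 2 * q ^ 2 ≤ q ^ (p - 1) := by
  have h1 : p ^ 2 ≤ 3 ^ (p - 3) := by
    have := sq_le_three_pow (p - 3) (by omega)
    rwa [show p - 3 + 3 = p by omega] at this
  have h2 : 3 ^ (p - 3) ≤ q ^ (p - 3) := Nat.pow_le_pow_left hq _
  calc p ^ 2 * q ^ 2 ≤ q ^ (p - 3) * q ^ 2 := Nat.mul_le_mul (h1.trans h2) le_rfl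
    _ = q ^ (p - 1) := by rw [← pow_add]; congr 1; omega

theorem five_or_seven {p q : ℕ} (hp : p.Prime) (hq : q.Prime) (hq2 : q ≠ 2) (hqp : q < p) :
    (p = 5 ∧ q = 3) ∨ 7 ≤ p := by
  have h3 : 3 ≤ q := by have := hq.two_le; omega
  by_contra h
  push Not at h
  have h7 : p < 7 := h.2
  have h5 : p = 5 := by
    rcases (show p = 4 ∨ p = 5 ∨ p = 6 by omega) with e | e | e
    · exact absurd hp (by rw [e]; decide)
    · exact e
    · exact absurd hp (by rw [e]; decide)
  rcases (show q = 3 ∨ q = 4 by omega) with e | e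
  · exact h.1 h5 e
  · exact absurd hq (by rw [e]; decide)

/-- The order of the kernel equals `u`, and `u` is full. -/
theorem order_eq {p q u h : ℕ} (hp : p.Prime) (hq : q.Prime) (hq2 : q ≠ 2) (hqp : q < p)
    (hu : u * (p - 1) = p ^ q - 1 ∨ u * q * (p - 1) = p ^ q - 1) (huq : u % q = 1) (huh : u ∣ h)
    (hodd : h % 2 = 1) (hhp : h % p = 1) (hhq : h % q = 1)
    (hb : h - 1 ≤ p * (u - 1) ∨ h - 1 ≤ p ^ 2 * q ^ 2 ∨ (p = 5 ∧ q = 3 ∧ h - 1 ≤ 360)) :
    h = u ∧ u * (p - 1) = p ^ q - 1 := by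
  have hp2 : p ≠ 2 := by have := hq.two_le; omega
  have hp3 : 3 ≤ p := by have := hp.two_le; omega
  have hq3 : 3 ≤ q := by have := hq.two_le; omega
  obtain ⟨k, rfl⟩ := huh
  rw [mul_comm u k] at *
  have hk2 : k % 2 = 1 := Nat.odd_iff.1 (Nat.odd_mul.1 (Nat.odd_iff.2 hodd)).1
  have hkq : k % q = 1 := mod_eq_of_mul huq hhq
  rcases hu with hu | hu
  · obtain ⟨hup, -, hulb⟩ := full_geom hp.two_le hq.two_le hu
    have hkp : k % p = 1 := mod_eq_of_mul hup hhp
    refine ⟨?_, hu⟩
    by_contra hne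
    have hk1 : k ≠ 1 := fun e => hne (by rw [e, one_mul])
    have h1 : p * q ∣ k - 1 := Nat.Coprime.mul_dvd_of_dvd_of_dvd
      ((Nat.coprime_primes hp hq).2 (by omega))
      ((Nat.modEq_iff_dvd' (by omega)).1 (Eq.symm (by rw [Nat.one_mod_eq_one.2 hp.ne_one]; exact hkp)))
      ((Nat.modEq_iff_dvd' (by omega)).1 (Eq.symm (by rw [Nat.one_mod_eq_one.2 hq.ne_one]; exact hkq)))
    obtain ⟨j, hj⟩ := h1
    have hj2 : 2 ≤ j := by
      rcases j with _ | _ | j
      · omega
      · exfalso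
        rw [zero_add, mul_one] at hj
        have : (p * q) % 2 = 1 := Nat.odd_iff.1 ((hp.odd_of_ne_two hp2).mul (hq.odd_of_ne_two hq2))
        omega
      · omega
    have hk : 2 * (p * q) + 1 ≤ k := by
      have := Nat.mul_le_mul_left (p * q) hj2
      omega
    have hk' : (2 * (p * q) + 1) * u ≤ k * u := Nat.mul_le_mul_right _ hk
    have hu0 : p * p + 1 ≤ u := by
      refine le_trans ?_ hulb
      have : p ^ 2 ≤ p ^ (q - 1) := Nat.pow_le_pow_right hp.pos (by omega)
      rw [pow_two] at this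
      omega
    rcases hb with hb | hb | ⟨rfl, rfl, hb⟩
    · have h2 : p * (u - 1) + p = p * u := by
        rw [← Nat.mul_succ, Nat.succ_eq_add_one, Nat.sub_add_cancel (by omega)]
      have h3 : p * u ≤ (2 * (p * q)) * u := Nat.mul_le_mul_right _ (by nlinarith)
      have h4 : (2 * (p * q) + 1) * u = 2 * (p * q) * u + u := by ring
      omega
    · have h2 : q ^ 2 * p ^ 2 ≤ p * q * u := by
        have : p * q ≤ u := by nlinarith
        calc q ^ 2 * p ^ 2 = p * q * (p * q) := by ring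
          _ ≤ _ := Nat.mul_le_mul_left _ this
      have h3 : p * q ≤ p * q * u := Nat.le_mul_of_pos_right _ (by omega)
      nlinarith [Nat.sub_add_cancel (show 1 ≤ k * u by nlinarith), mul_comm (p ^ 2) (q ^ 2)]
    · omega
  · exfalso
    obtain ⟨hup, -, hulb⟩ := full_geom (u := u * q) hp.two_le hq.two_le hu
    have hkp : k % p = q := by
      have e1 : (k * u * q) % p = k % p := by
        rw [mul_assoc, Nat.mul_mod, hup, mul_one, Nat.mod_mod]
      have e2 : (k * u * q) % p = q := by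
        rw [Nat.mul_mod, hhp, one_mul, Nat.mod_mod, Nat.mod_eq_of_lt hqp]
      omega
    obtain ⟨i, hi⟩ : ∃ i, k = q + p * i := ⟨k / p, by have := Nat.mod_add_div k p; omega⟩
    have hi0 : i ≠ 0 := by
      rintro rfl
      rw [hi, mul_zero, add_zero, Nat.mod_self] at hkq
      omega
    have hodd' : i % 2 = 0 := by
      have h1 : (p * i) % 2 = 0 := by
        have := Nat.odd_iff.1 (hq.odd_of_ne_two hq2)
        omega
      rwa [Nat.mul_mod, Nat.odd_iff.1 (hp.odd_of_ne_two hp2), one_mul, Nat.mod_mod] at h1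
    have hk : q + 2 * p ≤ k := by
      have := Nat.mul_le_mul_left p (show 2 ≤ i by omega)
      omega
    have hku : 1 ≤ k * u := by
      rcases Nat.eq_zero_or_pos (k * u) with e | e
      · rw [e] at hhp; simp at hhp
      · omega
    rcases hb with hb | hb | ⟨rfl, rfl, hb⟩
    · have hu1 : 1 ≤ u := Nat.one_le_iff_ne_zero.2 fun e => by simp [e] at huq
      have h2 : p * (u - 1) + p = p * u := by
        rw [← Nat.mul_succ, Nat.succ_eq_add_one, Nat.sub_add_cancel hu1]
      have h3 : (q + 2 * p) * u ≤ k * u := Nat.mul_le_mul_right _ hk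
      have h4 : (q + 2 * p) * u = q * u + 2 * (p * u) := by ring
      omega
    · have hlow : p ^ 2 * q ^ 3 + q < k * (u * q) := by
        by_cases hq5 : 5 ≤ q
        · have h1 : p * p ^ 2 * p ^ 2 ≤ p * p ^ (q - 1) := by
            rw [← pow_succ', ← pow_succ', ← pow_add]
            exact Nat.pow_le_pow_right hp.pos (by omega)
          have h2 : q ^ 3 ≤ p * p ^ 2 := by
            rw [← pow_succ']; exact Nat.pow_le_pow_left hqp.le 3
          have h3 : p ^ 2 * q ^ 3 ≤ p * p ^ (q - 1) :=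
            le_trans (by rw [mul_comm]; exact Nat.mul_le_mul_right _ h2) h1
          have h4 : (q + 2 * p) * (p ^ (q - 1) + 1) ≤ k * (u * q) := Nat.mul_le_mul hk hulb
          have h5 : (q + 2 * p) * (p ^ (q - 1) + 1) =
              q * p ^ (q - 1) + q + 2 * (p * p ^ (q - 1)) + 2 * p := by ring
          omega
        · obtain rfl : q = 3 := by
            interval_cases q <;> first | rfl | exact absurd hq (by norm_num)
          have hp3' : p % 3 = 1 := by
            obtain ⟨m, hm⟩ : ∃ m, u = 3 * m + 1 := ⟨u / 3, by omega⟩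
            by_contra hne
            have hN : u * 3 = p ^ 2 + p + 1 := by
              have h1 := hu
              rw [show p ^ 3 - 1 = (p ^ 2 + p + 1) * (p - 1) by
                obtain ⟨r, rfl⟩ : ∃ r, p = r + 1 := ⟨p - 1, by omega⟩
                simp only [Nat.add_sub_cancel]
                rw [show (r + 1) ^ 3 = ((r + 1) ^ 2 + (r + 1) + 1) * r + 1 by ring, Nat.add_sub_cancel]] at h1
              exact Nat.eq_of_mul_eq_mul_right (by omega) h1
            have h3 : p % 3 = 0 ∨ p % 3 = 2 := by omega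
            have h4 : (p ^ 2 + p + 1) % 3 = 0 := by omega
            rcases h3 with e | e <;> simp [Nat.add_mod, Nat.pow_mod, e] at h4
          have hi4 : 4 ≤ i := by
            have h1 : (p * i) % 3 = 1 := by omega
            rw [Nat.mul_mod, hp3', one_mul, Nat.mod_mod] at h1
            omega
          have hp7 : 7 ≤ p := by
            rcases Nat.lt_or_ge p 7 with h | h
            · interval_cases p <;> first | omega | exact absurd hp (by norm_num)
            · exact h
          have hk4 : 4 * p + 3 ≤ k := by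
            have := Nat.mul_le_mul_left p hi4
            omega
          have h4 : (4 * p + 3) * (p ^ 2 + 1) ≤ k * (u * 3) := Nat.mul_le_mul hk4 hulb
          nlinarith [Nat.mul_le_mul_right (p ^ 2) (show 27 < 4 * p by omega)]
      have h5 : k * (u * q) ≤ (p ^ 2 * q ^ 2 + 1) * q := by
        rw [← mul_assoc]
        exact Nat.mul_le_mul_right _ (by omega)
      nlinarith
    · omega

/-- The size of `v`. -/
theorem v_big {p q v : ℕ} (hp : p.Prime) (hq : q.Prime) (hq2 : q ≠ 2) (hqp : q < p)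
    (hv : v * (q - 1) = q ^ p - 1) : (p = 5 ∧ q = 3 ∧ v = 121) ∨ p ^ 2 * q ^ 2 < v := by
  rcases five_or_seven hp hq hq2 hqp with ⟨rfl, rfl⟩ | h
  · left
    norm_num at hv
    omega
  · right
    have h1 := (full_geom hq.two_le hp.two_le hv).2.2
    have h2 := pow_bound h (show 3 ≤ q by have := hq.two_le; omega)
    omega

theorem v_energy {p q v : ℕ} (hp : p.Prime) (hq : q.Prime) (hq2 : q ≠ 2) (hqp : q < p)
    (hv : v * (q - 1) = q ^ p - 1) : p ^ 2 * q ^ 2 < 3 * (v - 1) := by
  rcases v_big hp hq hq2 hqp hv with ⟨rfl, rfl, rfl⟩ | h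
  · norm_num
  · have : 0 < p ^ 2 * q ^ 2 := Nat.mul_pos (pow_pos hp.pos 2) (pow_pos hq.pos 2)
    omega

/-- The conjugate case. -/
theorem conj_eq {p q v h : ℕ} (hp : p.Prime) (hq : q.Prime) (hq2 : q ≠ 2) (hqp : q < p)
    (hv : v * (q - 1) = q ^ p - 1) (hvh : v ∣ h) (hodd : h % 2 = 1) (hhq : h % q = 1)
    (hb : h - 1 ≤ q * (v - 1)) : h = v := by
  obtain ⟨hvq, -, -⟩ := full_geom hq.two_le hp.two_le hv
  obtain ⟨k, rfl⟩ := hvh
  rw [mul_comm v k] at *
  have hkq : k % q = 1 := mod_eq_of_mul hvq hhq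
  by_contra hne
  have hk1 : k ≠ 1 := fun e => hne (by rw [e, one_mul])
  have hk : q + 1 ≤ k := by
    have := Nat.mod_add_div k q
    rcases Nat.eq_zero_or_pos (k / q) with e | e
    · rw [e] at this; omega
    · have := Nat.le_mul_of_pos_right q e
      omega
  have hv1 : 1 ≤ v := Nat.one_le_iff_ne_zero.2 fun e => by simp [e] at hvq
  have h2 : q * (v - 1) + q = q * v := by
    rw [← Nat.mul_succ, Nat.succ_eq_add_one, Nat.sub_add_cancel hv1]
  have h3 : (q + 1) * v ≤ k * v := Nat.mul_le_mul_right _ hk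
  have := hq.two_le
  nlinarith [Nat.sub_add_cancel (show 1 ≤ k * v by nlinarith)]

theorem coprime_of_full {p q u : ℕ} (hp : p.Prime) (hq : q.Prime) (hp2 : p ≠ 2) (hq2 : q ≠ 2)
    (hu : u * (p - 1) = p ^ q - 1) (huq : u % q = 1) :
    Nat.Coprime ((p ^ q - 1) / (p - 1)) (p - 1) := by
  obtain ⟨-, h1, h2⟩ := S1546.result p q hp hq hp2 hq2
  refine (h2 fun e => ?_).1
  have hd := h1 e
  rw [← hu, Nat.mul_div_cancel _ (by have := hp.two_le; omega)] at hd
  rw [Nat.mod_eq_zero_of_dvd hd] at huq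
  omega

end Cfsg.Agent.Peterfalvi.Sec14
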