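import Cfsg.Agent.Lib.Coherence.FrobKernel

/-!
# Peterfalvi section 14: induced characters over an abelian section acted on without fixed points
(owner: helper65)

* `linear_fixed_trivial`, `irr_of_fpf_mod`
-/

set_option autoImplicit false
set_option linter.style.haveILetI false

namespace Cfsg.Agent.Peterfalvi.Sec14

open Cfsg Cfsg.Agent Cfsg.Agent.Char Cfsg.Agent.Coherence
open scoped ComplexConjugate commutatorElement

universe u

variable {N : Type u} [Group N] [Fintype N] {K A : Subgroup N} [K.Normal] [A.Normal]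

/-- A linear character trivial on `A` and fixed by a fixed point free element is trivial. -/
theorem linear_fixed_trivial (hab : ⁅K, K⁆ ≤ A) {x : N}
    (hfpf : ∀ k ∈ K, x * k * x⁻¹ * k⁻¹ ∈ A → k ∈ A) (l : ↥K →* ℂ)
    (hker : ∀ a : ↥K, (a : N) ∈ A → l a = 1)
    (hfix : ∀ k : ↥K, l ⟨x * k * x⁻¹, ‹K.Normal›.conj_mem _ k.2 x⟩ = l k) (k : ↥K) : l k = 1 := by
  classical
  set A' := A.subgroupOf K
  haveI : A'.Normal := inferInstance
  let c : ↥K → ↥K := fun k => ⟨x * k * x⁻¹, ‹K.Normal›.conj_mem _ k.2 x⟩ * k⁻¹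
  let f : ↥K ⧸ A' → ↥K ⧸ A' := fun q => (c q.out : ↥K ⧸ A')
  have hcomm : ∀ a b : ↥K ⧸ A', a * b = b * a := by
    intro a b
    obtain ⟨a, rfl⟩ := QuotientGroup.mk_surjective a
    obtain ⟨b, rfl⟩ := QuotientGroup.mk_surjective b
    rw [← QuotientGroup.mk_mul, ← QuotientGroup.mk_mul, QuotientGroup.eq, Subgroup.mem_subgroupOf]
    simp only [Subgroup.coe_mul, Subgroup.coe_inv]
    rw [show ((a : N) * b)⁻¹ * (b * a) = ⁅(b : N)⁻¹, (a : N)⁻¹⁆ by
      rw [commutatorElement_def]; group]
    exact hab (Subgroup.commutator_mem_commutator (K.inv_mem b.2) (K.inv_mem a.2))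
  let φ : ↥K →* ↥K ⧸ A' :=
    { toFun := fun k => ((⟨x * k * x⁻¹, ‹K.Normal›.conj_mem _ k.2 x⟩ : ↥K) : ↥K ⧸ A')
      map_one' := by
        rw [QuotientGroup.eq_one_iff, Subgroup.mem_subgroupOf]
        simp [A.one_mem]
      map_mul' := fun a b => by
        rw [← QuotientGroup.mk_mul]
        congr 1
        apply Subtype.ext
        simp [mul_assoc] }
  have hinj : Function.Injective f := by
    intro a b e
    simp only [f, c] at e
    rw [QuotientGroup.mk_mul, QuotientGroup.mk_mul, QuotientGroup.mk_inv, QuotientGroup.mk_inv] at e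
    change φ a.out * (a.out : ↥K ⧸ A')⁻¹ = φ b.out * (b.out : ↥K ⧸ A')⁻¹ at e
    rw [QuotientGroup.out_eq' a, QuotientGroup.out_eq' b, mul_inv_eq_iff_eq_mul] at e
    have h2 : φ (b.out⁻¹ * a.out) = b⁻¹ * a := by
      rw [map_mul, map_inv, e]
      group
    have h3 : ((b.out⁻¹ * a.out : ↥K) : ↥K ⧸ A') = b⁻¹ * a := by
      rw [QuotientGroup.mk_mul, QuotientGroup.mk_inv, QuotientGroup.out_eq', QuotientGroup.out_eq']
    rw [← h3] at h2
    change ((⟨x * (b.out⁻¹ * a.out : ↥K) * x⁻¹, _⟩ : ↥K) : ↥K ⧸ A') =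
      ((b.out⁻¹ * a.out : ↥K) : ↥K ⧸ A') at h2
    have hmem : (b.out⁻¹ * a.out : ↥K) ∈ A' := by
      rw [Subgroup.mem_subgroupOf]
      refine hfpf _ (b.out⁻¹ * a.out : ↥K).2 ?_
      have h4 := (QuotientGroup.eq (s := A')).1 h2.symm
      rw [Subgroup.mem_subgroupOf] at h4
      simp only [Subgroup.coe_mul, Subgroup.coe_inv] at h4 ⊢
      have h5 := ‹A.Normal›.conj_mem _ h4 ((b.out : N)⁻¹ * a.out)
      refine Eq.mp ?_ h5
      congr 1
      group
    rw [← QuotientGroup.eq_one_iff, h3, inv_mul_eq_one] at hmem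
    exact hmem.symm
  obtain ⟨q, hq⟩ := Finite.surjective_of_injective hinj (k : ↥K ⧸ A')
  have hl : ∀ y : ↥K, l (c y) = 1 := fun y => by
    simp only [c]
    rw [map_mul, hfix, ← map_mul, mul_inv_cancel, map_one]
  have hmem := (QuotientGroup.eq (s := A')).1 (show (c q.out : ↥K ⧸ A') = (k : ↥K ⧸ A') from hq)
  have := hker _ (Subgroup.mem_subgroupOf.1 hmem)
  rw [map_mul] at this
  calc l k = l (c q.out) * (l (c q.out)⁻¹ * l k) := by
        rw [← mul_assoc, ← map_mul, mul_inv_cancel, map_one, one_mul]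
    _ = 1 := by rw [this, mul_one, hl]

/-- Induced characters of an abelian section with fixed point free action are irreducible. -/
theorem irr_of_fpf_mod (hab : ⁅K, K⁆ ≤ A)
    (hfpf : ∀ x, x ∉ K → ∀ k ∈ K, x * k * x⁻¹ * k⁻¹ ∈ A → k ∈ A) :
    ∀ φ ∈ inducedIrrAbove K A, IsIrrCharacter N φ := by
  classical
  rintro φ ⟨θ, hθ, hne, hker, rfl⟩
  haveI := Fintype.ofFinite ↥K
  have hdeg : θ 1 = 1 := by
    let θ' : IrrCharacter ↥K := ⟨θ, hθ⟩
    have hk : commutator ↥K ≤ Codegree.kerSub θ' := by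
      refine le_trans (fun k hk => ?_) (show A.subgroupOf K ≤ Codegree.kerSub θ' from fun a ha => hker a ha)
      refine hab ?_
      rw [← Subgroup.map_subtype_commutator]
      exact Subgroup.mem_map_of_mem _ hk
    obtain ⟨ψ, hψ⟩ := Codegree.exists_quot θ' (commutator ↥K) hk
    have h1 := apply_one_eq_one_of_comm (fun a b => mul_comm (G := Abelianization ↥K) a b) ψ
    exact (hψ 1).symm.trans h1
  rw [isIrrCharacter_iff_norm_one (IsCharacter.indFun (H := K) (IsIrrCharacter.isCharacter hθ)),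
    frobenius_reciprocity K _ (indFun_isClassFunction K _),
    show (fun k : ↥K => indFun K θ (k : N)) =
      (Nat.card ↥K : ℂ)⁻¹ • CliffordChar.orbitSum K θ from
      funext fun k => CliffordChar.indFun_coe K θ k,
    classInner_smul_right, ← classInner_conj_symm (CliffordChar.orbitSum K θ),
    CliffordChar.classInner_orbitSum K hθ hθ]
  have hfix : (Finset.univ.filter fun x : N => CliffordChar.conjFun K x θ = θ) =
      Finset.univ.filter (fun x : N => x ∈ K) := by
    ext x
    simp only [Finset.mem_filter, Finset.mem_univ, true_and]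
    constructor
    · intro hx
      by_contra hxK
      obtain ⟨l, hl⟩ := exists_hom_of_degree_one (IsIrrCharacter.isCharacter hθ) hdeg
      refine hne (funext fun k => ?_)
      have hxi : x⁻¹ ∉ K := fun e => hxK (inv_mem_iff.1 e)
      have hk := linear_fixed_trivial hab (hfpf x⁻¹ hxi) l (fun a ha => ?_) (fun m => ?_) k
      · rw [← congrFun hl k]; exact hk
      · have := hker a ha
        rw [hdeg, ← congrFun hl a] at this
        exact this
      · conv_rhs => rw [congrFun hl m, ← hx]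
        rw [CliffordChar.conjFun_apply, congrFun hl]
        refine congrArg θ (Subtype.ext ?_)
        simp
    · intro hx
      funext k
      rw [CliffordChar.conjFun_apply]
      have := IsIrrCharacter.isClassFunction hθ k (⟨x, hx⟩⁻¹ : ↥K)
      rw [← this]
      refine congrArg θ (Subtype.ext ?_)
      simp
  rw [hfix]
  have hcard : (Finset.univ.filter (fun x : N => x ∈ K)).card = Nat.card ↥K := by
    rw [Nat.card_eq_fintype_card, Fintype.card_subtype]
  rw [hcard]
  simp

end Cfsg.Agent.Peterfalvi.Sec14
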