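import Cfsg.Agent.Lib.Peterfalvi.Sec14.MkHub
import Cfsg.Agent.Lib.Peterfalvi.Sec14.IrrInd
import Cfsg.Agent.Lib.Peterfalvi.Sec13.Bounds

/-!
# Peterfalvi section 14: the hub of a side with `M_σ = M'` (owner: helper65)

* `exists_hub_derived` : characters induced from the linear characters of `M' / M_F`
-/

set_option autoImplicit false

namespace Cfsg.Agent.Peterfalvi.Sec14

open scoped Pointwise commutatorElement
open Cfsg Cfsg.Agent OddMax Cfsg.Agent.Coherence

universe u

variable {G : Type u} [Group G] [Fintype G] {T W₂ V W₁ : Subgroup G} {q p : ℕ}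

theorem derived_two_le_core (h : Sec13.Side T W₂ V W₁ q p) (hC : Sec13.cU T V = ⊥) :
    ⁅⁅T, T⁆, ⁅T, T⁆⁆ ≤ fittingHallOf T := by
  have e := h.hyp.data.derived_two_le
  rw [h.hyp.data.fitting_eq, h.H_eq, Sec13.hS, hC, sup_bot_eq] at e
  exact e

/-- The hub. -/
theorem exists_hub_derived (h : Sec13.Side T W₂ V W₁ q p) (hC : Sec13.cU T V = ⊥)
    (hσ : sigmaCore T = ⁅T, T⁆) :
    ∃ H : Hub G, H.X = T ∧ H.A = coreA1 T ∧ H.R = supportR T ∧ H.e = p ∧
      H.N * H.e = Nat.card V - 1 := by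
  haveI := Fintype.ofFinite ↥T
  have F := OddOrder14.sec16 h.hG
  have hT'T : ⁅T, T⁆ ≤ T := h.hyp.le_M.2.2.1
  have hQK : fittingHallOf T ≤ ⁅T, T⁆ := h.hyp.le_M.1
  haveI hKn : ((⁅T, T⁆).subgroupOf T).Normal :=
    Subgroup.normal_subgroupOf_of_le_normalizer (le_normalizer_commutator_self T)
  haveI hAn : ((fittingHallOf T).subgroupOf T).Normal :=
    Subgroup.normal_subgroupOf_of_le_normalizer (le_normalizer_fittingHallOf T)
  set K := (⁅T, T⁆).subgroupOf T with hK
  set A := (fittingHallOf T).subgroupOf T with hA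
  have h2 := derived_two_le_core h hC
  have hab : ⁅K, K⁆ ≤ A := Subgroup.commutator_le.2 fun a ha b hb => by
    rw [hA, Subgroup.mem_subgroupOf]
    exact h2 (Subgroup.commutator_mem_commutator (Subgroup.mem_subgroupOf.1 ha)
      (Subgroup.mem_subgroupOf.1 hb))
  have hAK : A < K := by
    refine lt_of_le_of_ne (Subgroup.comap_mono hQK) fun e => h.hyp.U_ne (le_bot_iff.1 ?_)
    rw [← h.hyp.H_U_inf]
    refine le_inf (fun x hx => ?_) le_rfl
    have hxK : (⟨x, h.hyp.le_M.2.2.2.2 hx⟩ : ↥T) ∈ K := h.hyp.le_M.2.1 hx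
    rw [← e] at hxK
    exact hxK
  have hQn : ∀ z ∈ T, ∀ a ∈ fittingHallOf T, z * a * z⁻¹ ∈ fittingHallOf T := fun z hz a ha =>
    conj_mem_of_le_normalizer (le_normalizer_fittingHallOf T) hz ha
  have hirr := irr_of_fpf_mod hab (fun x hx k hk hm => by
    rw [hA, Subgroup.mem_subgroupOf] at hm ⊢
    rw [hK, Subgroup.mem_subgroupOf] at hx hk
    simp only [Subgroup.coe_mul, Subgroup.coe_inv] at hm
    obtain ⟨d, hd, w, hw, hdw⟩ := h.hyp.data.W₁_compl.2.2.2 (x : G) x.2
    have hw1 : w ≠ 1 := fun e => hx (by rw [hdw, e, mul_one]; exact hd)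
    have hwT : w ∈ T := h.hyp.le_M.2.2.2.1 hw
    have hwk : w * (k : G) * w⁻¹ * (k : G)⁻¹ ∈ fittingHallOf T := by
      have h3 : d * (w * (k : G) * w⁻¹) * d⁻¹ * (w * (k : G) * w⁻¹)⁻¹ ∈ fittingHallOf T := by
        rw [← commutatorElement_def]
        exact h2 (Subgroup.commutator_mem_commutator hd
          (conj_mem_of_le_normalizer (le_normalizer_commutator_self T) hwT hk))
      have := (fittingHallOf T).mul_mem ((fittingHallOf T).inv_mem h3) hm
      rw [hdw] at this
      refine Eq.mp ?_ this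
      congr 1
      group
    obtain ⟨b, hb, v, hv, hbv⟩ := h.hyp.data.U_compl.2.2.2 (k : G) hk
    have hvv : w * v * w⁻¹ * v⁻¹ = 1 := by
      have h4 : w * v * w⁻¹ * v⁻¹ ∈ fittingHallOf T ⊓ V := by
        refine ⟨?_, V.mul_mem ((Subgroup.mem_normalizer_iff.1 (h.hyp.data.U_normal hw) v).1 hv)
          (V.inv_mem hv)⟩
        have := (fittingHallOf T).mul_mem ((fittingHallOf T).inv_mem (hQn w hwT b hb))
          ((fittingHallOf T).mul_mem hwk hb)
        rw [hbv] at this
        refine Eq.mp ?_ this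
        congr 1
        group
      rwa [h.hyp.H_U_inf, Subgroup.mem_bot] at h4
    have hv1 : v = 1 := h.hyp.fpf hw hw1 hv (commutatorElement_eq_one_iff_commute.1 hvv).eq
    rw [hbv, hv1, mul_one]
    exact hb)
  have hD := dade_hypothesis h.hG F h.hyp.coatom (A := coreA1 T) (Or.inl rfl)
  haveI : Group.IsSolvable ↥T := OddSigma.proper_solvable h.hG h.hyp.coatom.1
  obtain ⟨H, h1, h2', h3, he, hN⟩ := exists_hub_uniform (A := coreA1 T) (K := K) (K₀ := A)
    (OddSigma.odd_card h.hG T) hD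
    (fun x hx hx1 => ⟨hσ ▸ hx, fun e => hx1 (Subtype.ext e)⟩) hAK inferInstance hab hirr
  have hidx : K.index = p := by
    have e := Subgroup.card_mul_index K
    rw [hK, Nat.card_congr (Subgroup.subgroupOfEquivOfLe hT'T).toEquiv, h.card_derived, h.card_S] at e
    exact Nat.eq_of_mul_eq_mul_left (Nat.mul_pos (Nat.pow_pos h.hp.pos) Nat.card_pos) e
  refine ⟨H, h1, h2', h3, he.trans hidx, ?_⟩
  have hrel : A.relIndex K = Nat.card V := by
    rw [hA, hK, Subgroup.relIndex_subgroupOf hT'T]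
    have e := card_mul_relIndex hQK
    rw [h.card_derived, h.card_P] at e
    exact Nat.eq_of_mul_eq_mul_left (Nat.pow_pos h.hp.pos) e
  rw [he, hN, hrel]

end Cfsg.Agent.Peterfalvi.Sec14
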