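import Cfsg.Agent.Lib.Peterfalvi.Sec14.MkHub
import Cfsg.Agent.Lib.Peterfalvi.Sec14.IrrInd
import Cfsg.Agent.Lib.Peterfalvi.TypeIFrobenius
import Cfsg.Agent.Lib.Peterfalvi.Sec12Kernel
import Cfsg.Agent.Lib.Peterfalvi.Supports
import Cfsg.Agent.Lib.OddOrder.TypeOne
import Cfsg.Agent.Lib.OddOrder14.Inputs16

/-!
# Peterfalvi section 14: the hubs on `A₁` (owner: helper65)

* `typeI_of_frob` : empty `κ` and Frobenius give Type I
* `exists_hub_typeI` : the hub of such a subgroup
* `disjoint_of_nonconj` : hubs on `A₁` of two non-conjugate subgroups have disjoint supports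
* `orderOf_dvd_of_support` : elements of the support
-/

set_option autoImplicit false

namespace Cfsg.Agent.Peterfalvi.Sec14

open scoped Pointwise commutatorElement
open Cfsg Cfsg.Agent OddMax Cfsg.Agent.Coherence

universe u

variable {G : Type u} [Group G] [Fintype G] (hG : IsMinSimpleOddOrder G) {L : Subgroup G}
  (hL : IsCoatom L)
include hG hL

theorem frob_fitting (hκ : kappa L = ∅) (hfrob : Sec12.FrobSigma L) :
    fittingHallOf L = sigmaCore L ∧
      ∀ x ∈ fittingHallOf L, x ≠ 1 → L ⊓ Subgroup.centralizer ({x} : Set G) ≤ fittingHallOf L := by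
  have F := OddOrder14.sec16 hG
  obtain ⟨K, U, hKU⟩ := exists_decomp F.toSec15Facts hL
  obtain rfl : K = ⊥ := (kappa_empty_iff hKU).1 hκ
  obtain ⟨-, -, hH⟩ := typeOne_basic hG F hL hKU
  exact ⟨hH, hH.symm ▸ hfrob⟩

/-- Empty `κ` and Frobenius give Type I. -/
theorem typeI_of_frob (hκ : kappa L = ∅) (hfrob : Sec12.FrobSigma L) : IsOfTypeI L := by
  have F := OddOrder14.sec16 hG
  obtain ⟨hH, hf⟩ := frob_fitting hG hL hκ hfrob
  obtain ⟨K, U, hKU⟩ := exists_decomp F.toSec15Facts hL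
  obtain rfl : K = ⊥ := (kappa_empty_iff hKU).1 hκ
  refine isOfTypeI_of_kappa_empty hG F hL hKU fun g hg hne => ?_
  obtain ⟨x, hx, hx1⟩ := (fittingHallOf L).bot_or_exists_ne_one.resolve_left
    (hH.symm ▸ sigmaCore_ne_bot F.toSec15Facts hL hKU)
  refine le_antisymm (F.s1440 L hL ⊥ U hKU g hg hne).2.1.1.1 ?_
  rw [fitting_eq hG F.toSec15Facts hL]
  refine (sup_le (fun z hz => ?_) le_rfl).trans
    (hH.le.trans (sigmaCore_le_commutator F.toSec15Facts hL))
  exact hf x hx hx1 ⟨hz.1, Subgroup.mem_centralizer_singleton_iff.2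
    (Subgroup.mem_centralizer_iff.1 hz.2 x hx).symm⟩

/-- The hub of a Frobenius maximal subgroup. -/
theorem exists_hub_typeI (hκ : kappa L = ∅) (hfrob : Sec12.FrobSigma L) :
    ∃ H : Hub G, H.X = L ∧ H.A = coreA1 L ∧ H.R = supportR L ∧
      H.N * H.e = Nat.card (fittingHallOf L) - 1 ∧ Nat.card L = Nat.card (fittingHallOf L) * H.e := by
  have F := OddOrder14.sec16 hG
  haveI := Fintype.ofFinite ↥L
  obtain ⟨hH, hf⟩ := frob_fitting hG hL hκ hfrob
  have hI := typeI_of_frob hG hL hκ hfrob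
  obtain ⟨-, hcoh⟩ := typeI_frobenius_coherent hG hL hI hf F
  have hA : typeA L = coreA1 L := by
    rw [typeA_eq_kernel hI hf, hH]
    rfl
  have hD := (dade_hypothesis_type hG F hL (Or.inr (Or.inl rfl))).2
  rw [hA] at hcoh hD
  haveI hN : (fittingHall ↥L).Normal := by
    have e : (fittingHallOf L).subgroupOf L = fittingHall ↥L :=
      Subgroup.comap_map_eq_self_of_injective L.subtype_injective (fittingHall ↥L)
    rw [← e]
    exact Subgroup.normal_subgroupOf_of_le_normalizer (le_normalizer_fittingHallOf L)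
  have hcard : Nat.card (fittingHall ↥L) = Nat.card (fittingHallOf L) := by
    rw [fittingHallOf, Subgroup.card_map_of_injective L.subtype_injective]
  have hne : fittingHall ↥L ≠ ⊥ := hI.1.2.2.1
  obtain ⟨H, hX, hHA, hR, he, hNe⟩ := exists_hub_frob (A := coreA1 L)
    (hG.1.of_dvd_nat (Subgroup.card_subgroup_dvd_card L)) hD
    (fun x hx hx1 => ⟨hH ▸ Subgroup.mem_map_of_mem L.subtype hx,
      fun e => hx1 (Subtype.ext e)⟩)
    (frobK_fittingHall hf) hne
    (by
      haveI : Group.IsSolvable ↥L := OddSigma.proper_solvable hG hL.1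
      infer_instance)
    hcoh
  refine ⟨H, hX, hHA, hR, by rw [he, hNe, hcard], ?_⟩
  rw [he, ← hcard, Subgroup.card_mul_index]

omit hL in
/-- An element of the support of `A₁` has a power of nontrivial `σ`-part. -/
theorem support_coreA1 {X : Subgroup G} (hX : IsCoatom X) {g : G}
    (hg : g ∈ Dade.support (coreA1 X) (supportR X)) :
    ∃ a ∈ sigmaCore X, a ≠ 1 ∧ ∃ r ∈ supportR X a, ∃ x : G, x * g * x⁻¹ = a * r ∧
      orderOf a ∣ orderOf g := by
  obtain ⟨a, ⟨ha, ha1⟩, r, hr, x, hx⟩ := hg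
  refine ⟨a, ha, ha1, r, hr, x, hx, ?_⟩
  obtain ⟨k, hk⟩ := mem_zpowers_mul hG (OddOrder14.cover hG).toSigFacts hX ha ha1 hr
  have hk' : (a * r) ^ k = a := hk
  have h1 : orderOf a ∣ orderOf (a * r) := hk' ▸ Subgroup.orderOf_dvd_natCard (Subgroup.zpowers (a * r))
    (zpow_mem (Subgroup.mem_zpowers _) k) |>.trans (dvd_of_eq (Nat.card_zpowers _))
  have h2 : orderOf g = orderOf (a * r) := by
    rw [← hx, ← MulAut.conj_apply, MulEquiv.orderOf_eq]
  exact h2.symm ▸ h1

/-- Supports on `A₁` of non-conjugate maximal subgroups are disjoint. -/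
theorem disjoint_of_nonconj {M : Subgroup G} (hM : IsCoatom M)
    (hnc : ∀ g : G, M ≠ MulAut.conj g • L) :
    ∀ g ∈ Dade.support (coreA1 L) (supportR L), g ∉ Dade.support (coreA1 M) (supportR M) := by
  have h := tilde_disjoint hG (OddOrder14.cover hG).toCountFacts hL hM hnc
  rw [Set.eq_empty_iff_forall_notMem] at h
  rintro g ⟨a, ha, r, hr, x, hx⟩ ⟨b, hb, s, hs, y, hy⟩
  refine h g ⟨?_, ?_⟩
  · exact ⟨a, ha, r, hr, x⁻¹, by rw [← hx]; group⟩
  · exact ⟨b, hb, s, hs, y⁻¹, by rw [← hy]; group⟩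

end Cfsg.Agent.Peterfalvi.Sec14
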