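import Cfsg.Agent.Lib.Peterfalvi.Sec14.Side
import Cfsg.Agent.Lib.Peterfalvi.Sec13.Bounds

/-!
# Peterfalvi section 14: the side of a subgroup of type P (owner: helper65)

* `dade_restrict`, `sylow_not_dvd`, `side_of` : the `Side` of section 14 from the one of section 13
-/

set_option autoImplicit false

namespace Cfsg.Agent.Peterfalvi.Sec14

open scoped commutatorElement
open Cfsg Cfsg.Agent OddMax

universe u

variable {G : Type u} [Group G]

/-- Restriction of a Dade hypothesis to a set with centralisers inside. -/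
theorem dade_restrict {A B : Set G} {L : Subgroup G} {R : G → Subgroup G} (hD : DadeHypothesis A L R)
    (hBA : B ⊆ A) (hconj : ∀ x ∈ L, ∀ b ∈ B, x * b * x⁻¹ ∈ B)
    (hcent : ∀ b ∈ B, Subgroup.centralizer ({b} : Set G) ≤ L) :
    DadeHypothesis B L (fun _ => ⊥) where
  one_not_mem h := hD.one_not_mem (hBA h)
  subset _ hb := hD.subset (hBA hb)
  conj_mem := hconj
  fusion a ha g hg := hD.fusion a (hBA ha) g (hBA hg)
  le_centralizer _ _ := bot_le
  conj_mem_H a _ c _ u hu := by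
    rw [Subgroup.mem_bot] at hu ⊢
    simp [hu]
  inf_eq_bot _ _ := bot_inf_eq _
  sup_eq a ha := by rw [bot_sup_eq, inf_eq_right]; exact hcent a ha
  coprime a _ b _ := by simp

variable [Fintype G] {S W₁ U W₂ : Subgroup G} {p q : ℕ}

/-- `S_F` is a Sylow subgroup. -/
theorem sylow_not_dvd (h : Sec13.Side S W₁ U W₂ p q) : ¬ p ∣ (fittingHallOf S).index := by
  haveI := Fact.mk h.hp
  obtain ⟨R, hR⟩ := (IsPGroup.of_card h.card_P : IsPGroup p (fittingHallOf S)).exists_le_sylow
  have hinP : ∀ x : G, x ∈ (R : Subgroup G) → x ∈ S → x ∈ fittingHallOf S := fun x hx hxS => by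
    obtain ⟨n, hn⟩ := (R.2.to_le (Subgroup.zpowers_le.2 hx)).exists_card_eq
    exact h.le_P_of_pGroup (Subgroup.zpowers_le.2 hxS) hn (Subgroup.mem_zpowers x)
  have hcent : ∀ a ∈ fittingHallOf S, a ≠ 1 → Subgroup.centralizer ({a} : Set G) ≤ S :=
    fun a ha ha1 => h.cent_le (Subgroup.mem_sup_left ha) ha1
  haveI : Nontrivial (R : Subgroup G) := by
    rw [Subgroup.nontrivial_iff_ne_bot]
    exact fun e => h.P_ne (le_bot_iff.1 (e ▸ hR))
  haveI := R.2.center_nontrivial
  obtain ⟨⟨z, hz⟩, hz1⟩ := exists_ne (1 : Subgroup.center (R : Subgroup G))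
  obtain ⟨a, ha, ha1⟩ := (fittingHallOf S).bot_or_exists_ne_one.resolve_left h.P_ne
  have hzc : ∀ x ∈ (R : Subgroup G), x * (z : G) = (z : G) * x := fun x hx =>
    congrArg Subtype.val (Subgroup.mem_center_iff.1 hz ⟨x, hx⟩)
  have hzP : (z : G) ∈ fittingHallOf S := hinP _ z.2
    (hcent a ha ha1 (Subgroup.mem_centralizer_singleton_iff.2 (hzc a (hR ha)).symm))
  have hz1' : (z : G) ≠ 1 := fun e => hz1 (Subtype.ext (Subtype.ext e))
  have he : fittingHallOf S = (R : Subgroup G) := le_antisymm hR fun x hx =>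
    hinP x hx (hcent _ hzP hz1' (Subgroup.mem_centralizer_singleton_iff.2 (hzc x hx)))
  rw [he]
  exact R.not_dvd_index

/-- The side of section 14. -/
theorem side_of (h : Sec13.Side S W₁ U W₂ p q)
    (hfpf : ∀ u ∈ U, u ≠ 1 → ∀ x ∈ fittingHallOf S, u * x = x * u → x = 1) :
    Side S ⁅S, S⁆ (fittingHallOf S) W₁ W₂ ∧ (fittingHallOf S).relIndex ⁅S, S⁆ = Nat.card U := by
  have hD := primeDade_of_typeP h.hG h.hyp.coatom h.hyp.data
  have hP := h.hyp.le_M
  have hW : IsSelfNormalizingCyclic W₁ W₂ := h.hyp.data.selfNormalizing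
  have hidx : (fittingHallOf S).relIndex ⁅S, S⁆ = Nat.card U := by
    have h1 := card_mul_relIndex hP.1
    rw [h.card_derived, h.card_P] at h1
    exact Nat.eq_of_mul_eq_mul_left (Nat.pow_pos h.hp.pos) h1
  have hconjP : ∀ x ∈ S, ∀ y ∈ fittingHallOf S, x * y * x⁻¹ ∈ fittingHallOf S := fun x hx y hy =>
    conj_mem_of_le_normalizer (le_normalizer_fittingHallOf S) hx hy
  have hKfpf : ∀ k ∈ ⁅S, S⁆, ∀ y ∈ fittingHallOf S, y ≠ 1 → k * y = y * k → k ∈ fittingHallOf S := by
    intro k hk y hy hy1 e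
    obtain ⟨a, ha, u, hu, rfl⟩ := h.hyp.data.U_compl.2.2.2 k hk
    by_cases hu1 : u = 1
    · rw [hu1, mul_one]; exact ha
    · refine absurd (hfpf u hu hu1 y hy ?_) hy1
      have e' : a * (u * y) = a * (y * u) := by
        rw [← mul_assoc, e, ← mul_assoc, ← mul_assoc, h.P_comm hy ha]
      exact mul_left_cancel e'
  have hAconj : ∀ x ∈ S, ∀ a ∈ ((fittingHallOf S : Set G) \ {1}),
      x * a * x⁻¹ ∈ ((fittingHallOf S : Set G) \ {1}) := fun x hx a ha =>
    ⟨hconjP x hx a ha.1, fun e => ha.2 (conj_eq_one_iff.1 e)⟩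
  refine ⟨⟨⟨hD.toPrimeTI, hW, hP.1, hconjP, h.hyp.data.W₂_le.trans inf_le_left,
    fun a ha => ⟨hP.1 ha.1, ha.2⟩, hAconj, fun k hk hk1 y hy hy1 e => ⟨hKfpf k hk y hy hy1 e, hk1⟩,
    ?_⟩, h.card₂ ▸ h.hp, h.card₁ ▸ h.hq, ?_, ?_, fun a ha b hb => h.P_comm ha hb, ?_, hKfpf, ?_⟩, hidx⟩
  · refine dade_restrict hD.dade ?_ ?_ ?_
    · rintro v (hv | hv)
      · exact Or.inl (h.hSub_subset_coreA (Subgroup.mem_sup_left hv.1) hv.2)
      · exact Or.inr hv
    · rintro x hx v (hv | ⟨m, hm, w, hw, h1, h2, rfl⟩)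
      · exact Or.inl (hAconj x hx v hv)
      · exact Or.inr ⟨x * m, S.mul_mem hx hm, w, hw, h1, h2, by group⟩
    · rintro v (hv | ⟨m, hm, w, hw, h1, h2, rfl⟩)
      · exact h.cent_le (Subgroup.mem_sup_left hv.1) hv.2
      · intro g hg
        rw [Subgroup.mem_centralizer_singleton_iff] at hg
        have hn : m⁻¹ * g * m ∈ Subgroup.normalizer ({w} : Set G) := by
          have e : m⁻¹ * g * m * w * (m⁻¹ * g * m)⁻¹ = w := by
            calc m⁻¹ * g * m * w * (m⁻¹ * g * m)⁻¹
                = m⁻¹ * (g * (m * w * m⁻¹)) * g⁻¹ * m := by group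
              _ = w := by rw [hg]; group
          refine Subgroup.mem_set_normalizer_iff.2 fun z => ?_
          constructor
          · intro hz
            rw [Set.mem_singleton_iff.1 hz]
            exact e
          · intro hz
            refine Set.mem_singleton_iff.2 ?_
            have hz' : m⁻¹ * g * m * z * (m⁻¹ * g * m)⁻¹ = m⁻¹ * g * m * w * (m⁻¹ * g * m)⁻¹ := by
              rw [e]; exact hz
            exact mul_left_cancel (mul_right_cancel hz')
        rw [hW.2.2.2.2.2 {w} (by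
          intro z hz
          rw [Set.mem_singleton_iff.1 hz]
          exact ⟨hw, fun e => e.elim h1 h2⟩) (Set.singleton_nonempty w)] at hn
        have hmem : m⁻¹ * g * m ∈ S :=
          (_root_.sup_le hP.2.2.2.1 ((h.hyp.data.W₂_le.trans inf_le_left).trans
            (hP.1.trans hP.2.2.1))) hn
        have := S.mul_mem (S.mul_mem hm hmem) (S.inv_mem hm)
        simpa [mul_assoc] using this
  · rw [h.card₁, h.card₂]; exact Ne.symm h.ne
  · rw [h.card₁, h.card₂, h.card_P]
  · rw [h.card₂]; exact sylow_not_dvd h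
  · rw [hidx, h.card₁]
    have := h.card_modEq_one le_rfl h.hyp.U_normalized
    rw [Nat.ModEq, Nat.one_mod_eq_one.2 h.hq.ne_one] at this
    exact this

end Cfsg.Agent.Peterfalvi.Sec14
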