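import Cfsg.Agent.Lib.Peterfalvi.Sec14.Main
import Cfsg.Agent.Lib.Peterfalvi.Sec14.SideOf
import Cfsg.Agent.Lib.Peterfalvi.Sec14.Hubs
import Cfsg.Agent.Lib.Peterfalvi.Sec14.HubThree
import Cfsg.Agent.Lib.Peterfalvi.Sec13.Exact
import Cfsg.Agent.Lib.Peterfalvi.Sec13.Hub

/-!
# Peterfalvi section 14: the orders for a pair (owner: helper65)

* `HubShape` : the shape of the maximal subgroup over `N(U)`
* `shape_card`, `exists_kernel_typeI`, `exists_second`
* `pair_conclusion` : for `q < p`, `|U|` is full and a conjugate of `W₂` by an element of `T_F`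
  normalises `U`
-/

set_option autoImplicit false

namespace Cfsg.Agent.Peterfalvi.Sec14

open scoped Pointwise commutatorElement
open Cfsg Cfsg.Agent OddMax

universe u

variable {G : Type u} [Group G] [Fintype G]

/-- The shape of the maximal subgroup over `N(U)`. -/
def HubShape (T W₁ W₂ L : Subgroup G) (p q : ℕ) : Prop :=
  ((fittingHallOf L ⊓ W₁ = ⊥ ∧ fittingHallOf L ⊔ W₁ = L) ∨
    ∃ y ∈ fittingHallOf T, fittingHallOf L ⊓ (W₁ ⊔ W₂.map (MulAut.conj y).toMonoidHom) = ⊥ ∧
      fittingHallOf L ⊔ (W₁ ⊔ W₂.map (MulAut.conj y).toMonoidHom) = L) ∧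
    (Nat.card (fittingHallOf L)).Coprime (p * q)

variable {S T W₁ W₂ U V : Subgroup G} {p q : ℕ}

theorem map_conj_W₁ (h : Sec13.Pair S T W₁ W₂ U V p q) {y : G} (hy : y ∈ fittingHallOf T) :
    W₁.map (MulAut.conj y).toMonoidHom = W₁ := by
  have hle : W₁ ≤ fittingHallOf T := h.right.hyp.data.W₂_le.trans inf_le_left
  ext x
  constructor
  · rintro ⟨w, hw, rfl⟩
    show y * w * y⁻¹ ∈ W₁
    rw [h.right.P_comm hy (hle hw), mul_inv_cancel_right]
    exact hw
  · intro hx
    exact ⟨x, hx, by show y * x * y⁻¹ = x; rw [h.right.P_comm hy (hle hx), mul_inv_cancel_right]⟩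

theorem card_sup_conj (h : Sec13.Pair S T W₁ W₂ U V p q) {y : G} (hy : y ∈ fittingHallOf T) :
    Nat.card ↥(W₁ ⊔ W₂.map (MulAut.conj y).toMonoidHom) = q * p := by
  conv_lhs => rw [← map_conj_W₁ h hy]
  rw [← Subgroup.map_sup, Subgroup.card_map_of_injective (MulAut.conj y).injective]
  exact h.card_W

theorem card_of_compl {H B L : Subgroup G} (hH : H ≤ L) (hn : L ≤ Subgroup.normalizer (H : Set G))
    (hinf : H ⊓ B = ⊥) (hsup : H ⊔ B = L) : Nat.card L = Nat.card H * Nat.card B := by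
  have hB : B ≤ L := hsup ▸ le_sup_right
  refine (compl_card (show IsComplIn H B L from ⟨hH, hB, hinf, fun m hm => ?_⟩)).symm
  rw [← hsup] at hm
  exact (Coprime.mem_sup_iff (hB.trans hn)).1 hm |>.elim fun a ha => by
    obtain ⟨ha', b, hb, e⟩ := ha
    exact ⟨a, ha', b, hb, e.symm⟩

/-- The degree of the hub and the order of `L`. -/
theorem shape_card (h : Sec13.Pair S T W₁ W₂ U V p q) {L : Subgroup G}
    (hs : HubShape T W₁ W₂ L p q) :
    (fittingHallOf L ⊔ W₁ = L ∧ Nat.card L = Nat.card (fittingHallOf L) * q) ∨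
      ∃ y ∈ fittingHallOf T, W₂.map (MulAut.conj y).toMonoidHom ≤ L ∧
        fittingHallOf L ⊓ W₂.map (MulAut.conj y).toMonoidHom = ⊥ ∧
        Nat.card L = Nat.card (fittingHallOf L) * (q * p) := by
  have hle := OddTypeP.fittingHallOf_le L
  have hn := OddMax.le_normalizer_fittingHallOf L
  rcases hs.1 with ⟨h1, h2⟩ | ⟨y, hy, h1, h2⟩
  · exact Or.inl ⟨h2, by rw [card_of_compl hle hn h1 h2, h.left.card₁]⟩
  · exact Or.inr ⟨y, hy, le_trans (le_sup_right.trans le_sup_right) h2.le,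
      le_bot_iff.1 (le_trans (inf_le_inf_left _ le_sup_right) h1.le),
      by rw [card_of_compl hle hn h1 h2, card_sup_conj h hy]⟩

/-- The hub of `L` with its kernel data. -/
theorem exists_kernel_typeI (h : Sec13.Pair S T W₁ W₂ U V p q) {L : Subgroup G} (hL : IsCoatom L)
    (hκ : kappa L = ∅) (hfrob : Sec12.FrobSigma L)
    (hcop : (Nat.card (fittingHallOf L)).Coprime (p * q)) :
    ∃ H : Hub G, H.X = L ∧ H.A = coreA1 L ∧ H.R = supportR L ∧
      Kernel H W₁ W₂ (Nat.card (fittingHallOf L)) ∧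
      Nat.card L = Nat.card (fittingHallOf L) * H.e := by
  have hG := h.left.hG
  obtain ⟨hH, -⟩ := frob_fitting hG hL hκ hfrob
  obtain ⟨H, hX, hA, hR, hN, hcard⟩ := exists_hub_typeI hG hL hκ hfrob
  refine ⟨H, hX, hA, hR, ⟨hN, by rw [hX]; exact hcard, ?_, fun a ha => ?_, ?_⟩, hcard⟩
  · rw [hX, hA]
    have hle : Nat.card {x : ↥L // (x : G) ∈ coreA1 L} ≤
        Nat.card {a : ↥(fittingHallOf L) // a ≠ 1} := by
      refine Nat.card_le_card_of_injective (fun x => ⟨⟨((x.1 : ↥L) : G), hH.symm ▸ x.2.1⟩,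
        fun e => x.2.2 (congrArg Subtype.val e)⟩) fun a b e => ?_
      have e' := congrArg (fun t : {a : ↥(fittingHallOf L) // a ≠ 1} => ((t.1 : ↥(fittingHallOf L)) : G)) e
      exact Subtype.ext (Subtype.ext e')
    refine hle.trans (le_of_eq ?_)
    classical
    haveI := Fintype.ofFinite ↥(fittingHallOf L)
    simp [Nat.card_eq_fintype_card, Fintype.card_subtype_compl, Fintype.card_subtype_eq]
  · rw [hA] at ha
    rw [h.left.card₁, h.left.card₂, mul_comm q p]
    exact hcop.coprime_dvd_left (Subgroup.orderOf_dvd_natCard _ (hH.symm ▸ ha.1))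
  · exact Nat.odd_iff.1 (OddSigma.odd_card hG _)

/-- The second hub, when `L` and the subgroup over `N(V)` are not conjugate or `T` is not of Type II. -/
theorem exists_second (F9 : Sec9Facts G) (h : Sec13.Pair S T W₁ W₂ U V p q)
    (hfrob : ∀ M : Subgroup G, IsCoatom M → kappa M = ∅ → Sec12.FrobSigma M)
    (hD : Sec13.cU T V = ⊥)
    (hshape : ∀ M : Subgroup G, IsCoatom M → Subgroup.normalizer (V : Set G) ≤ M → IsOfTypeII T →
      HubShape S W₂ W₁ M q p)
    (hT : IsOfTypeII T ∨ sigmaCore T = ⁅T, T⁆) {L : Subgroup G} (hL : IsCoatom L) (hκ : kappa L = ∅)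
    (H : Hub G) (hX : H.X = L) (hA : H.A = coreA1 L) (hR : H.R = supportR L) :
    (∃ M : Subgroup G, ∃ g : G, M = MulAut.conj g • L ∧ V ≤ fittingHallOf M ∧
        fittingHallOf M = MulAut.conj g • fittingHallOf L) ∨
      ∃ M : Hub G, Second H W₁ W₂ (Nat.card V) M := by
  have hG := h.left.hG
  have F := OddOrder14.sec16 hG
  have horder : ∀ w : ↥(W₁ ⊔ W₂), orderOf (w : G) ∣ q * p := fun w => by
    rw [← h.card_W]
    exact Subgroup.orderOf_dvd_natCard _ w.2
  have hsupp : ∀ {g : G}, g ∈ H.support → g ∈ Dade.support (coreA1 L) (supportR L) := fun {g} hg => by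
    rw [Hub.support, hA, hR] at hg
    exact hg
  rcases hT with hII | hσ
  · obtain ⟨M, hM, hNV⟩ := (eq_top_or_exists_le_coatom _).resolve_left
      (OddSigma.normalizer_ne_top hG h.right.hyp.U_ne
        fun e => h.right.hyp.coatom.1 (top_le_iff.1 (e ▸ h.right.hyp.le_M.2.2.2.2)))
    have hf := h.symm.hub hfrob hII hM hNV
    by_cases hconj : ∃ g : G, M = MulAut.conj g • L
    · obtain ⟨g, hg⟩ := hconj
      refine Or.inl ⟨M, g, hg, hf.U_le, ?_⟩
      rw [hf.fitting_eq, (frob_fitting hG hL hκ (hfrob L hL hκ)).1, hg, sigmaCore_conj]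
    · push Not at hconj
      have hs := hshape M hM hNV hII
      obtain ⟨H', hX', hA', hR', hk, hcard⟩ := exists_kernel_typeI h hM hf.kappa_empty
        (hfrob M hM hf.kappa_empty) (by rw [mul_comm]; exact hs.2)
      refine Or.inr ⟨H', fun g hg hg' => ?_, fun w h1 h2 hw => ?_, ?_, ?_⟩
      · rw [Hub.support, hA', hR'] at hg'
        exact disjoint_of_nonconj hG hL hM hconj g (hsupp hg) hg'
      · rw [Hub.support, hA', hR'] at hw
        obtain ⟨a, ha, ha1, r, -, x, -, hd⟩ := support_coreA1 hG hM hw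
        refine ha1 (orderOf_eq_one_iff.1 (Nat.eq_one_of_dvd_coprimes hs.2
          (Subgroup.orderOf_dvd_natCard _ (hf.fitting_eq.symm ▸ ha)) (hd.trans ?_)))
        exact horder w
      · rw [h.left.card₁, h.left.card₂]
        rcases shape_card h.symm hs with ⟨-, e⟩ | ⟨y, -, -, -, e⟩
        · rw [Nat.eq_of_mul_eq_mul_left Nat.card_pos (hcard.symm.trans e)]
          exact Nat.le_mul_of_pos_left p h.left.hq.pos
        · rw [Nat.eq_of_mul_eq_mul_left Nat.card_pos (hcard.symm.trans e), mul_comm]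
      · rw [mul_comm, hk.hN]
        exact Nat.sub_le_sub_right (Nat.le_of_dvd Nat.card_pos (Subgroup.card_dvd_of_le hf.U_le)) 1
  · right
    obtain ⟨H', hX', hA', hR', he, hN⟩ := exists_hub_derived h.right hD hσ
    have hTc := h.right.hyp.coatom
    have hnc : ∀ g : G, T ≠ MulAut.conj g • L := fun g e => by
      obtain ⟨w, hw, hw1⟩ := W₁.bot_or_exists_ne_one.resolve_left h.left.hyp.data.W₁_ne
      obtain ⟨z, hz, hz1⟩ := W₂.bot_or_exists_ne_one.resolve_left h.right.hyp.data.W₁_ne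
      have hwT : w ∈ sigmaCore T :=
        OddMax.fittingHallOf_le_sigmaCore hG hTc ((h.right.hyp.data.W₂_le hw).1)
      rw [e, sigmaCore_conj, Coprime.mem_conj] at hwT
      have hzT : z ∈ T := h.right.hyp.le_M.2.2.2.1 hz
      rw [e, Coprime.mem_conj] at hzT
      have hzw : z * w = w * z := (h.hW.2.2.2.1 w hw z hz).symm
      have := hfrob L hL hκ (g⁻¹ * w * g) hwT (fun e' => hw1 (by
        calc w = g * (g⁻¹ * w * g) * g⁻¹ := by group
          _ = 1 := by rw [e']; group)) ⟨hzT, Subgroup.mem_centralizer_singleton_iff.2 (by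
        calc g⁻¹ * z * g * (g⁻¹ * w * g) = g⁻¹ * (z * w) * g := by group
          _ = g⁻¹ * (w * z) * g := by rw [hzw]
          _ = g⁻¹ * w * g * (g⁻¹ * z * g) := by group)⟩
      have hz' : z ∈ sigmaCore T := by rw [e, sigmaCore_conj, Coprime.mem_conj]; exact this
      rw [hσ] at hz'
      refine hz1 ?_
      rw [← Subgroup.mem_bot, ← h.right.hyp.data.W₁_compl.2.2.1]
      exact ⟨hz', hz⟩
    refine ⟨H', fun g hg hg' => ?_, fun w h1 h2 hw => ?_, ?_, ?_⟩
    · rw [Hub.support, hA', hR'] at hg'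
      exact disjoint_of_nonconj hG hL hTc hnc g (hsupp hg) hg'
    · rw [Hub.support, hA', hR'] at hw
      obtain ⟨a, ha, ha1, r, hr, x, hx, hd⟩ := support_coreA1 hG hTc hw
      rw [hσ] at ha
      have hdq : orderOf a ∣ q := by
        have h3 : orderOf a ∣ q * p := hd.trans (horder w)
        refine (Nat.Coprime.dvd_of_dvd_mul_right ?_ h3)
        refine Nat.Coprime.coprime_dvd_left (Subgroup.orderOf_dvd_natCard _ ha) ?_
        rw [h.right.card_derived]
        exact Nat.Coprime.mul_left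
          (Nat.Coprime.pow_left p ((Nat.coprime_primes h.left.hq h.left.hp).2 (Ne.symm h.left.ne)))
          (h.left.hp.coprime_iff_not_dvd.2 h.right.not_dvd_U.2).symm
      have haq : orderOf a = q ^ 1 := by
        rw [pow_one]
        exact ((Nat.dvd_prime h.left.hq).1 hdq).resolve_left fun e => ha1 (orderOf_eq_one_iff.1 e)
      have haQ : a ∈ fittingHallOf T := h.right.le_P_of_pGroup (n := 1)
        (Subgroup.zpowers_le.2 (h.right.hyp.le_M.2.2.1 ha)) (by rw [Nat.card_zpowers, haq])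
        (Subgroup.mem_zpowers a)
      rw [supportR_eq_bot (h.right.cent_le (Subgroup.mem_sup_left haQ) ha1), Subgroup.mem_bot] at hr
      rw [hr, mul_one] at hx
      have hwq : orderOf (w : G) ∣ q := by
        rw [← pow_one q, ← haq, ← hx, ← MulAut.conj_apply, MulEquiv.orderOf_eq]
      have hP := CyclicTI.isPair_of_selfNormalizing h.hW
      obtain ⟨b, hb, c, hc, e⟩ := hP.exists_mul w.2
      refine h1 ?_
      have hpow : (w : G) ^ q = 1 := orderOf_dvd_iff_pow_eq_one.1 hwq
      have hcomm : Commute b c := h.hW.2.2.2.1 b hb c hc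
      rw [← e, hcomm.mul_pow, ← orderOf_dvd_iff_pow_eq_one.1
        ((Subgroup.orderOf_dvd_natCard W₁ hb).trans (dvd_of_eq h.left.card₁))] at hpow
      rw [mul_eq_left] at hpow
      have hc1 : c = 1 := orderOf_eq_one_iff.1 (Nat.eq_one_of_dvd_coprimes
        ((Nat.coprime_primes h.left.hq h.left.hp).2 (Ne.symm h.left.ne))
        (orderOf_dvd_of_pow_eq_one hpow) (h.left.card₂ ▸ Subgroup.orderOf_dvd_natCard W₂ hc))
      rw [← e, hc1, mul_one]
      exact hb
    · rw [he, h.left.card₁, h.left.card₂]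
      exact Nat.le_mul_of_pos_left p h.left.hq.pos
    · rw [mul_comm, hN]

/-- The conclusion of section 14 for a pair. -/
theorem pair_conclusion (F9 : Sec9Facts G) (h : Sec13.Pair S T W₁ W₂ U V p q)
    (hfrob : ∀ M : Subgroup G, IsCoatom M → kappa M = ∅ → Sec12.FrobSigma M)
    (h11 : ¬ IsOfTypeII S → p < q) (h11' : ¬ IsOfTypeII T → q < p) (hqp : q < p)
    (hshape : ∀ L : Subgroup G, IsCoatom L → Subgroup.normalizer (U : Set G) ≤ L → IsOfTypeII S →
      HubShape T W₁ W₂ L p q)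
    (hshape' : ∀ M : Subgroup G, IsCoatom M → Subgroup.normalizer (V : Set G) ≤ M → IsOfTypeII T →
      HubShape S W₂ W₁ M q p)
    (hT : IsOfTypeII T ∨ sigmaCore T = ⁅T, T⁆) :
    Nat.card U * (p - 1) = p ^ q - 1 ∧
      ∃ y ∈ fittingHallOf T, W₂.map (MulAut.conj y).toMonoidHom ≤ Subgroup.normalizer (U : Set G) := by
  have hG := h.left.hG
  have F := OddOrder14.sec16 hG
  have hSII : IsOfTypeII S := by
    by_contra hn
    exact absurd (h11 hn) (Nat.lt_asymm hqp)
  have hC := h.cU_eq_bot F9 h11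
  have hD := h.symm.cU_eq_bot F9 h11'
  obtain ⟨-, -, hfU⟩ := h.left.galois_facts F9 hC (h.galois F9 hfrob h11 h11')
  obtain ⟨hVc, -, hfV⟩ := h.right.galois_facts F9 hD (h.symm.galois F9 hfrob h11' h11)
  obtain ⟨hv, hu⟩ := h.values F9 hfrob h11 h11' hqp
  obtain ⟨hS, huU⟩ := side_of h.left hfU
  obtain ⟨hTs, hvV⟩ := side_of h.right hfV
  obtain ⟨L, hL, hNU⟩ := (eq_top_or_exists_le_coatom _).resolve_left
    (OddSigma.normalizer_ne_top hG h.left.hyp.U_ne
      fun e => h.left.hyp.coatom.1 (top_le_iff.1 (e ▸ h.left.hyp.le_M.2.2.2.2)))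
  have hf := h.hub hfrob hSII hL hNU
  have hs := hshape L hL hNU hSII
  obtain ⟨H, hX, hA, hR, hk, hcard⟩ :=
    exists_kernel_typeI h hL hf.kappa_empty (hfrob L hL hf.kappa_empty) hs.2
  have huh : Nat.card U ∣ Nat.card (fittingHallOf L) := Subgroup.card_dvd_of_le hf.U_le
  -- the degree
  have he : (H.e = Nat.card W₁ ∧ Nat.card (fittingHallOf L) ≠ Nat.card U) ∨
      H.e = Nat.card W₁ * Nat.card W₂ := by
    rw [h.left.card₁, h.left.card₂]
    rcases shape_card h hs with ⟨hsup, e⟩ | ⟨y, -, -, -, e⟩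
    · refine Or.inl ⟨Nat.eq_of_mul_eq_mul_left Nat.card_pos (hcard.symm.trans e), fun heq => ?_⟩
      have hUF : U = fittingHallOf L := Subgroup.eq_of_le_of_card_ge hf.U_le heq.le
      have hLS : L ≤ S := by
        rw [← hsup, ← hUF]
        exact sup_le h.left.hyp.le_M.2.2.2.2 h.left.hyp.le_M.2.2.2.1
      exact h.left.U_not_normalized hSII (hNU.trans hLS)
    · exact Or.inr (Nat.eq_of_mul_eq_mul_left Nat.card_pos (hcard.symm.trans e))
  let C : Prop := ∃ M : Subgroup G, ∃ g : G, M = MulAut.conj g • L ∧ V ≤ fittingHallOf M ∧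
    fittingHallOf M = MulAut.conj g • fittingHallOf L
  have hCdvd : C → (fittingHallOf T).relIndex ⁅T, T⁆ ∣ Nat.card (fittingHallOf L) := by
    rintro ⟨M, g, -, hVM, hMF⟩
    rw [hvV]
    refine (Subgroup.card_dvd_of_le hVM).trans (dvd_of_eq ?_)
    rw [hMF, Coprime.card_conj]
  obtain ⟨hepq, hcase⟩ := main hG.1 hS hTs (by rw [h.left.card₁, h.left.card₂]; exact hqp)
    (by rw [h.left.card₁, h.left.card₂, huU]; exact hu)
    (by rw [h.left.card₁, h.left.card₂, hvV]; exact hv) H hk (by rw [huU]; exact huh)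
    (by rw [huU]; exact he) hCdvd
    (by
      rw [hvV]
      exact exists_second F9 h hfrob hD hshape' hT hL hf.kappa_empty H hX hA hR)
  rw [huU, hvV, h.left.card₁, h.left.card₂] at hcase
  rw [h.left.card₁, h.left.card₂] at hepq
  obtain ⟨y, hy, hWL, hWinf⟩ : ∃ y ∈ fittingHallOf T, W₂.map (MulAut.conj y).toMonoidHom ≤ L ∧
      fittingHallOf L ⊓ W₂.map (MulAut.conj y).toMonoidHom = ⊥ := by
    rcases shape_card h hs with ⟨-, e⟩ | ⟨y, hy, h1, h2, -⟩
    · have e1 := Nat.eq_of_mul_eq_mul_left Nat.card_pos (hcard.symm.trans e)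
      rw [hepq] at e1
      exact absurd (Nat.eq_of_mul_eq_mul_left h.left.hq.pos (e1.trans (mul_one q).symm))
        h.left.hp.ne_one
    · exact ⟨y, hy, h1, h2⟩
  -- `L` normalises `U`
  have hUH := hf.U_le
  have hLU : L ≤ Subgroup.normalizer (U : Set G) := by
    have hLn := OddMax.le_normalizer_fittingHallOf L
    rcases hcase with ⟨heq, -⟩ | ⟨⟨M, g, -, hVM, hMF⟩, heq⟩
    · rw [Subgroup.eq_of_le_of_card_ge hUH heq.le]
      exact hLn
    · have hVeq : V = MulAut.conj g • fittingHallOf L := hMF ▸ Subgroup.eq_of_le_of_card_ge hVM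
        (by rw [hMF, Coprime.card_conj, heq])
      haveI : IsCyclic ↥(fittingHallOf L) := by
        have e : fittingHallOf L = MulAut.conj g⁻¹ • V := by
          rw [hVeq, map_inv, inv_smul_smul]
        rw [e]
        haveI := hVc
        exact isCyclic_of_surjective (Subgroup.equivSMul (MulAut.conj g⁻¹) V).toMonoidHom
          (Subgroup.equivSMul (MulAut.conj g⁻¹) V).surjective
      haveI : (U.subgroupOf (fittingHallOf L)).Characteristic := by
        refine Subgroup.characteristic_iff_map_le.2 fun φ => ?_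
        rintro _ ⟨z, hz, rfl⟩
        obtain ⟨m, hm⟩ := MonoidHom.map_cyclic φ.toMonoidHom
        show φ.toMonoidHom z ∈ _
        rw [hm z]
        exact zpow_mem hz m
      have := Cores.normalizer_le_normalizer_map (U.subgroupOf (fittingHallOf L))
      rw [Subgroup.map_subgroupOf_eq_of_le hUH] at this
      exact hLn.trans this
  refine ⟨?_, y, hy, hWL.trans hLU⟩
  rcases hu with hu | hu
  · exact hu
  exfalso
  -- `u ≡ 1 (mod p)`
  have hWN := hWL.trans hLU
  set B := W₂.map (MulAut.conj y).toMonoidHom with hB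
  have hBc : Nat.card B = p := by
    rw [hB, Subgroup.card_map_of_injective (MulAut.conj y).injective, h.left.card₂]
  haveI := Fact.mk h.left.hp
  let act : MulAction ↥B ↥U :=
    { smul := fun w x => ⟨(w : G) * x * (w : G)⁻¹, (Subgroup.mem_normalizer_iff.1 (hWN w.2) x).1 x.2⟩
      one_smul := fun x => Subtype.ext (by
        show ((1 : ↥B) : G) * x * ((1 : ↥B) : G)⁻¹ = _
        simp)
      mul_smul := fun v w x => Subtype.ext (by
        show ((v * w : ↥B) : G) * x * ((v * w : ↥B) : G)⁻¹ =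
          (v : G) * ((w : G) * x * (w : G)⁻¹) * (v : G)⁻¹
        simp [mul_assoc]) }
  have hm := (IsPGroup.of_card (n := 1) (by rw [pow_one, hBc]) :
    IsPGroup p ↥B).card_modEq_card_fixedPoints ↥U
  have h1 : Nat.card (MulAction.fixedPoints ↥B ↥U) = 1 := by
    obtain ⟨b, hb, hb1⟩ := B.bot_or_exists_ne_one.resolve_left fun e => h.left.hp.ne_one (by
      rw [← hBc, e, Subgroup.card_bot])
    have key : ∀ a : MulAction.fixedPoints ↥B ↥U, (a : ↥U) = 1 := fun a => by
      by_contra hne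
      have e : b * ((a : ↥U) : G) * b⁻¹ = ((a : ↥U) : G) := congrArg Subtype.val (a.2 ⟨b, hb⟩)
      have hmem := hf.frob ((a : ↥U) : G) (hUH (a : ↥U).2) (fun e' => hne (Subtype.ext e'))
        ⟨hWL hb, Subgroup.mem_centralizer_singleton_iff.2 (mul_inv_eq_iff_eq_mul.1 e)⟩
      refine hb1 ?_
      rw [← Subgroup.mem_bot, ← hWinf]
      exact ⟨hmem, hb⟩
    rw [Nat.card_eq_one_iff_unique]
    exact ⟨⟨fun a b => Subtype.ext (by rw [key a, key b])⟩, ⟨⟨1, fun w => Subtype.ext (by
      show (w : G) * (1 : ↥U) * (w : G)⁻¹ = _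
      simp)⟩⟩⟩
  rw [h1] at hm
  obtain ⟨hmod, -, -⟩ := full_geom h.left.hp.two_le h.left.hq.two_le hu
  rw [Nat.ModEq, Nat.one_mod_eq_one.2 h.left.hp.ne_one] at hm
  rw [Nat.mul_mod, hm, one_mul, Nat.mod_mod, Nat.mod_eq_of_lt hqp] at hmod
  exact h.left.hq.ne_one hmod

end Cfsg.Agent.Peterfalvi.Sec14
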