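import Cfsg.Agent.Lib.Peterfalvi.Sec14.Swap
import Cfsg.Agent.S1508

/-!
# Peterfalvi section 14: the exact case (owner: helper65)

* `Side.outside_fraction` : the support of a side outside the classes of `W \ (W₁ ∪ W₂)`
* `Hub.energy` : all coefficients of `Δ` at the family odd and degree `pq` bound the kernel of the hub
-/

set_option autoImplicit false

namespace Cfsg.Agent.Peterfalvi.Sec14

open Cfsg Cfsg.Agent Cfsg.Agent.Char Cfsg.Agent.Coherence Cfsg.Agent.OddPartition Cfsg.Agent.CyclicTI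
open scoped ComplexConjugate

universe u

variable {G : Type u} [Group G]

/-- The classes of `W \ (W₁ ∪ W₂)`. -/
def vSet (W₁ W₂ : Subgroup G) : Set G :=
  {g | ∃ x : G, ∃ w ∈ W₁ ⊔ W₂, w ∉ W₁ ∧ w ∉ W₂ ∧ g = x * w * x⁻¹}

theorem vSet_conj (W₁ W₂ : Subgroup G) (g x : G) : x * g * x⁻¹ ∈ vSet W₁ W₂ ↔ g ∈ vSet W₁ W₂ := by
  constructor
  · rintro ⟨z, w, hw, h1, h2, e⟩
    refine ⟨x⁻¹ * z, w, hw, h1, h2, ?_⟩
    calc g = x⁻¹ * (x * g * x⁻¹) * x := by group
      _ = _ := by rw [e]; group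
  · rintro ⟨z, w, hw, h1, h2, e⟩
    exact ⟨x * z, w, hw, h1, h2, by rw [e]; group⟩

theorem vSet_comm (W₁ W₂ : Subgroup G) : vSet W₁ W₂ = vSet W₂ W₁ := by
  ext g
  constructor <;> rintro ⟨z, w, hw, h1, h2, e⟩ <;> exact ⟨z, w, by rwa [sup_comm], h2, h1, e⟩

variable [Fintype G] {S K P T K' Q W₁ W₂ : Subgroup G}

theorem Side.vSet_subset (h : Side S K P W₁ W₂) :
    vSet W₁ W₂ ⊆ Dade.support (sideA S P W₁ W₂) (fun _ => ⊥) := by
  rintro g ⟨z, w, hw, h1, h2, rfl⟩
  exact (Dade.mem_support_conj_iff z).2 (h.mem_support_of_mem (h.pd.mem_a0Set (w := ⟨w, hw⟩) h1 h2))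

open Classical in
theorem Side.outside_fraction (h : Side S K P W₁ W₂) :
    (Nat.card {g : G // g ∈ Dade.support (sideA S P W₁ W₂) (fun _ => ⊥) ∧ g ∉ vSet W₁ W₂} : ℝ) /
      Nat.card G ≤ ((Nat.card P : ℝ) - 1) / Nat.card S := by
  haveI := Fintype.ofFinite ↥S
  let f : G → ℝ := fun g =>
    if g ∈ Dade.support (sideA S P W₁ W₂) (fun _ => ⊥) ∧ g ∉ vSet W₁ W₂ then (1 : ℝ) else 0
  have hs := Dade.sum_support h.pd.dade (K := ℝ) f
    (fun g x => by simp only [f, Dade.mem_support_conj_iff, vSet_conj]) (fun g hg => if_neg fun e => hg e.1)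
  have h1 : (Nat.card {g : G // g ∈ Dade.support (sideA S P W₁ W₂) (fun _ => ⊥) ∧ g ∉ vSet W₁ W₂} : ℝ) =
      ∑ g : G, f g := by
    rw [Nat.card_eq_fintype_card, Fintype.card_subtype, Finset.sum_boole]
  rw [h1, div_eq_inv_mul, hs, div_eq_inv_mul]
  refine mul_le_mul_of_nonneg_left ?_ (inv_nonneg.2 (Nat.cast_nonneg _))
  calc _ ≤ ∑ a ∈ Finset.univ.filter (fun a : S => (a : G) ∈ sideA S P W₁ W₂),
        (if (a : G) ∈ P ∧ a ≠ 1 then (1 : ℝ) else 0) := by
        refine Finset.sum_le_sum fun a ha => ?_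
        have hu : ∀ u : (⊥ : Subgroup G), f ((a : G) * u) ≤ if (a : G) ∈ P ∧ a ≠ 1 then (1 : ℝ) else 0 := by
          intro u
          rw [Subgroup.mem_bot.1 u.2, mul_one]
          by_cases hP : (a : G) ∈ P ∧ a ≠ 1
          · rw [if_pos hP]; simp only [f]; split_ifs <;> norm_num
          · rw [if_neg hP]
            refine le_of_eq (if_neg fun e => e.2 ?_)
            rcases (Finset.mem_filter.1 ha).2 with ⟨hm, hne⟩ | ⟨x, -, w, hw, h1, h2, he⟩
            · exact absurd ⟨hm, fun e' => hne (by simp [e'])⟩ hP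
            · exact ⟨x, w, hw, h1, h2, he⟩
        have hc : ∀ u : (⊥ : Subgroup G), f ((a : G) * u) = f a := fun u => by
          rw [Subgroup.mem_bot.1 u.2, mul_one]
        have huniv : ∀ F : Fintype (⊥ : Subgroup G), (@Finset.univ _ F).card = 1 := fun F => by
          refine le_antisymm (Finset.card_le_one.2 fun x _ y _ => Subsingleton.elim x y) ?_
          exact Finset.card_pos.2 ⟨1, @Finset.mem_univ _ F 1⟩
        rw [Finset.sum_congr rfl (fun u _ => hc u), Finset.sum_const, huniv, one_smul, Subgroup.card_bot,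
          Nat.cast_one, inv_one, one_mul, ← hc 1]
        exact hu 1
    _ ≤ ((Finset.univ.filter fun a : S => (a : G) ∈ P ∧ a ≠ 1).card : ℝ) := by
        rw [Finset.sum_boole]
        exact_mod_cast Finset.card_le_card (Finset.filter_subset_filter _ (Finset.subset_univ _))
    _ ≤ _ := by
        have e : (Finset.univ.filter fun a : S => (a : G) ∈ P ∧ a ≠ 1).card + 1 ≤ Nat.card P := by
          rw [← Nat.card_congr (Subgroup.subgroupOfEquivOfLe h.P_le_S).toEquiv, Nat.card_eq_fintype_card,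
            Fintype.card_subtype]
          refine Finset.card_lt_card (Finset.ssubset_iff_of_subset (fun a ha => ?_) |>.2 ⟨1, ?_, ?_⟩)
          · simp only [Finset.mem_filter, Finset.mem_univ, true_and] at ha ⊢
            exact ha.1
          · simp [Subgroup.one_mem]
          · simp
        have e' := (Nat.cast_le (α := ℝ)).2 e
        push_cast at e'
        linarith

open Classical in
/-- The exact case. -/
theorem Hub.energy (H : Hub G) (hS : Side S K P W₁ W₂) (hT : Side T K' Q W₂ W₁)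
    (hoddG : Odd (Nat.card G)) {η : (↥(W₁ ⊔ W₂) →* ℂˣ) → G → ℂ} (hη : IsCyclicTIFamily W₁ W₂ η)
    [Fintype (↥(W₁ ⊔ W₂) →* ℂˣ)]
    (hc : ∀ a ∈ H.A, (orderOf a).Coprime (Nat.card W₁ * Nat.card W₂))
    (hu : Nat.card W₂ ≤ P.relIndex K) (hv : Nat.card W₁ ≤ Q.relIndex K') (hq : Nat.card W₁ < Nat.card W₂)
    {h : ℕ} (he : H.e = Nat.card W₁ * Nat.card W₂) (hN : H.N * H.e = h - 1) (hN3 : 3 ≤ H.N)
    (hX : Nat.card H.X = h * H.e) (hA : Nat.card {x : ↥H.X // (x : G) ∈ H.A} ≤ h - 1)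
    (a : (↥(W₁ ⊔ W₂) →* ℂˣ) → ℤ) (ha : ∀ π, classInner H.Δ (η π) = (a π : ℂ))
    (hsum : (Nat.card W₁ : ℤ) * Nat.card W₂ - 1 ≤
      ∑ π ∈ Finset.univ.erase (1 : ↥(W₁ ⊔ W₂) →* ℂˣ), a π ^ 2) :
    3 * (h - 1) ≤ (Nat.card W₁ * Nat.card W₂) ^ 2 := by
  have hW := hS.pd.ti
  have hoddW := hS.odd_W
  have hV : ∀ w : ↥(W₁ ⊔ W₂), (w : G) ∉ W₁ → (w : G) ∉ W₂ → (w : G) ∉ H.support :=
    fun w h1 h2 hw => hS.disjoint_hub H hc _ hw (hS.mem_support_of_mem (hS.pd.mem_a0Set h1 h2))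
  set s := Finset.univ.erase (1 : ↥(W₁ ⊔ W₂) →* ℂˣ) with hs
  have hΔ : H.Δ = ∑ π ∈ s, (a π : ℂ) • η π :=
    (H.bound s η (fun π _ => eta_self hη π) (fun π _ π' _ hne => eta_orth hη hne)
      (fun φ hφ π _ => H.Φ_eta hW hoddW hη hV hφ π) (fun π _ => ha π)).2
      (by rw [he]; push_cast; exact hsum) hN3
  have hinv : ∀ π, a π⁻¹ = a π := fun π => by
    have e := inner_conj_eq H.Δ_gc (eta_gc hη π) H.Δ_real
    rw [← eta_inv hW hoddW hη, ha, ha] at e
    exact_mod_cast e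
  let G0 := Finset.univ.filter fun g : G => g ≠ 1 ∧ g ∉ Dade.support (sideA S P W₁ W₂) (fun _ => ⊥) ∧
    g ∉ Dade.support (sideA T Q W₂ W₁) (fun _ => ⊥) ∧ g ∉ H.support
  let suppH := Finset.univ.filter fun g : G => g ∈ H.support
  have hlow : ∀ g ∈ G0, (1 : ℝ) ≤ ‖H.Φ H.φ₀ g‖ ^ 2 := by
    intro g hg
    obtain ⟨-, -, hgS, hgT, hgH⟩ := Finset.mem_filter.1 hg
    have hcop : (orderOf g).Coprime (Nat.card ↥(W₁ ⊔ W₂)) := by
      rw [hS.card_W]
      refine Nat.Coprime.mul_right ?_ ?_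
      · exact ((Nat.Prime.coprime_iff_not_dvd hS.q_prime).2 fun hd => hgT (hT.mem_support_of_dvd hd)).symm
      · exact ((Nat.Prime.coprime_iff_not_dvd hS.p_prime).2 fun hd => hgS (hS.mem_support_of_dvd hd)).symm
    have hint : ∀ π, ∃ n : ℤ, η π g = n := fun π => by
      refine S1508.result W₁ W₂ hW hoddW η hη π g (hcop.coprime_dvd_right ?_)
      haveI := Fintype.ofFinite ↥(W₁ ⊔ W₂)
      refine orderOf_dvd_of_pow_eq_one ?_
      ext w
      rw [MonoidHom.pow_apply, ← map_pow, pow_card_eq_one', map_one, MonoidHom.one_apply]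
    choose n hn using hint
    have hval : H.Φ H.φ₀ g = ((1 + ∑ π ∈ s, a π * n π : ℤ) : ℂ) := by
      have e := congrFun H.T_eq g
      rw [H.T_zero hgH] at e
      simp only [Pi.add_apply, Pi.sub_apply, hΔ, Finset.sum_apply, Pi.smul_apply, smul_eq_mul, hn] at e
      push_cast
      linear_combination e
    have ha1 : a 1 = 0 := by
      have h0 := ha 1
      rw [hη.map_one, H.Δ_triv] at h0
      exact_mod_cast h0.symm
    have heven : ((∑ π ∈ s, a π * n π : ℤ) : ZMod 2) = 0 := by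
      rw [hs, Finset.sum_erase _ (by rw [ha1, zero_mul]), Int.cast_sum]
      refine Finset.sum_ninvolution (fun π => π⁻¹) (fun π => ?_) (fun π hne e => hne ?_)
        (fun π => ?_) (fun π => MonoidHom.ext fun w => inv_inv _)
      · have : n π⁻¹ = n π := by
          have e := congrFun (eta_inv hW hoddW hη π) g
          rw [conjFun, hn, hn, map_intCast] at e
          exact_mod_cast e
        rw [hinv, this]
        exact CharTwo.add_self_eq_zero _
      · by_cases hπ : π = 1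
        · rw [hπ, ha1, zero_mul, Int.cast_zero]
        · exfalso
          refine hπ (MonoidHom.ext fun w => ?_)
          haveI := Fintype.ofFinite ↥(W₁ ⊔ W₂)
          have h2 : π w * π w = 1 := by
            have := DFunLike.congr_fun e w
            rw [MonoidHom.inv_apply] at this
            nth_rewrite 1 [← this]
            exact inv_mul_cancel _
          obtain ⟨k, hk⟩ := hoddW
          have h3 : π w ^ (2 * k + 1) = 1 := by
            rw [← hk, Nat.card_eq_fintype_card, ← map_pow, pow_card_eq_one, map_one]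
          rwa [pow_succ, pow_mul, pow_two, h2, one_pow, one_mul] at h3
      · exact Finset.mem_univ _
    obtain ⟨k, hk⟩ := (ZMod.intCast_zmod_eq_zero_iff_dvd _ 2).1 heven
    rw [hval, Complex.norm_intCast, sq_abs]
    have : (1 : ℤ) ≤ (1 + ∑ π ∈ s, a π * n π) ^ 2 :=
      Int.add_one_le_iff.2 (sq_pos_of_ne_zero (by rw [hk]; push_cast; omega))
    exact_mod_cast this
  -- the energy on the support of `H`
  let α : ↥H.X → ℂ := (H.N : ℤ) • H.φ₀ - ∑ φ ∈ H.F, (H.d φ : ℤ) • φ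
  have hone : (∑ φ ∈ H.F, (H.d φ : ℤ) • φ) 1 = ((H.N * H.e : ℕ) : ℂ) := by
    rw [Finset.sum_apply, Hub.N, Finset.sum_mul, Nat.cast_sum]
    refine Finset.sum_congr rfl fun φ hφ => ?_
    rw [Pi.smul_apply, H.deg φ hφ, zsmul_eq_mul]
    push_cast
    ring
  have hαs : α ∈ zspan (↑H.F : Set (↥H.X → ℂ)) :=
    zspan_sub (zspan_zsmul _ (H.mem_span H.mem₀))
      (zspan_sum _ fun φ hφ => zspan_zsmul _ (H.mem_span hφ))
  have hαA : ∀ x : ↥H.X, (x : G) ∉ H.A → α x = 0 := fun x hx => by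
    by_cases h1 : x = 1
    · simp only [α]
      rw [h1, Pi.sub_apply, hone, Pi.smul_apply, H.deg _ H.mem₀, H.d₀]
      push_cast
      simp [zsmul_eq_mul]
    · simp only [α]
      rw [Pi.sub_apply, Pi.smul_apply, Finset.sum_apply, H.supp _ H.mem₀ x h1 hx, smul_zero, zero_sub,
        neg_eq_zero]
      exact Finset.sum_eq_zero fun φ hφ => by rw [Pi.smul_apply, H.supp φ hφ x h1 hx, smul_zero]
  have hαon : α ∈ zspanOn (↑H.F : Set (↥H.X → ℂ)) {1}ᶜ :=
    ⟨hαs, fun x hx => hαA x (by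
      rw [Set.mem_compl_iff, not_not, Set.mem_singleton_iff] at hx
      rw [hx, OneMemClass.coe_one]; exact H.dade.one_not_mem)⟩
  have hτ : dadeIsometry H.A H.X H.R α = (H.N : ℤ) • H.Φ H.φ₀ - ∑ φ ∈ H.F, (H.d φ : ℤ) • H.Φ φ := by
    have hsum' : ∑ φ ∈ H.F, (H.d φ : ℤ) • φ ∈ zspan (↑H.F : Set (↥H.X → ℂ)) :=
      zspan_sum _ fun φ hφ => zspan_zsmul _ (H.mem_span hφ)
    rw [← H.agree α hαon, show α = (H.N : ℤ) • H.φ₀ + -∑ φ ∈ H.F, (H.d φ : ℤ) • φ from sub_eq_add_neg _ _,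
      H.iso.1 _ (zspan_zsmul _ (H.mem_span H.mem₀)) _ (zspan_neg hsum'), lin_neg H.iso hsum',
      lin_sum H.iso _ (fun φ hφ => zspan_zsmul _ (H.mem_span hφ)), H.iso.2.1 _ (H.mem_span H.mem₀) _,
      ← sub_eq_add_neg, Finset.sum_congr rfl fun φ hφ => H.iso.2.1 φ (H.mem_span hφ) (H.d φ : ℤ)]
  have hupp : ((H.N : ℝ) - 1) / H.N ≤ (Nat.card G : ℝ)⁻¹ * ∑ g ∈ suppH, ‖H.Φ H.φ₀ g‖ ^ 2 := by
    have hW0 : ∀ g, g ∉ suppH → dadeIsometry H.A H.X H.R α g = 0 := fun g hg =>
      Dade.dadeIsometry_eq_zero H.dade fun e => hg (Finset.mem_filter.2 ⟨Finset.mem_univ _, e⟩)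
    have key := norm_inner_sq_le suppH (H.Φ H.φ₀) _ hW0
    have hsumd : ∀ χ ∈ H.F, classInner (∑ φ ∈ H.F, (H.d φ : ℤ) • H.Φ φ) (H.Φ χ) = (H.d χ : ℂ) := by
      intro χ hχ
      rw [classInner_sum_left, Finset.sum_eq_single χ]
      · rw [classInner_zsmul_left, H.Φ_self hχ]; simp
      · intro φ hφ hne
        rw [classInner_zsmul_left, H.Φ_orth hφ hχ hne, mul_zero]
      · exact fun e => absurd hχ e
    have hi : classInner (H.Φ H.φ₀) (dadeIsometry H.A H.X H.R α) = ((H.N : ℂ) - 1) := by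
      rw [hτ, classInner_sub_right, classInner_zsmul_right, H.Φ_self H.mem₀,
        classInner_symm_of_int (n := (1 : ℤ)) (by rw [hsumd _ H.mem₀, H.d₀]; simp)]
      push_cast
      ring
    have hn : classInner (dadeIsometry H.A H.X H.R α) (dadeIsometry H.A H.X H.R α) =
        (((H.N : ℝ) * ((H.N : ℝ) - 1) : ℝ) : ℂ) := by
      have hss : classInner (∑ φ ∈ H.F, (H.d φ : ℤ) • H.Φ φ) (∑ φ ∈ H.F, (H.d φ : ℤ) • H.Φ φ) = (H.N : ℂ) := by
        rw [classInner_sum_right, Hub.N, Nat.cast_sum]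
        refine Finset.sum_congr rfl fun φ hφ => ?_
        rw [classInner_zsmul_right, hsumd φ hφ]
        push_cast
        ring
      rw [hτ]
      simp only [classInner_sub_left, classInner_sub_right, classInner_zsmul_left, classInner_zsmul_right,
        H.Φ_self H.mem₀, hss, hsumd _ H.mem₀, H.d₀,
        classInner_symm_of_int (n := (1 : ℤ)) (show classInner (∑ φ ∈ H.F, (H.d φ : ℤ) • H.Φ φ) (H.Φ H.φ₀) = ((1 : ℤ) : ℂ) by
          rw [hsumd _ H.mem₀, H.d₀]; simp)]
      push_cast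
      ring
    rw [hi, hn, Complex.ofReal_re, show ((H.N : ℂ) - 1) = (((H.N : ℝ) - 1 : ℝ) : ℂ) by push_cast; rfl,
      Complex.norm_real, Real.norm_eq_abs, sq_abs] at key
    have hN0 : (3 : ℝ) ≤ H.N := by exact_mod_cast hN3
    rw [div_le_iff₀ (by linarith)]
    nlinarith
  have hdisj : Disjoint G0 suppH := Finset.disjoint_left.2 fun g h1 h2 =>
    (Finset.mem_filter.1 h1).2.2.2.2 (Finset.mem_filter.1 h2).2
  have hnorm1 : (Nat.card G : ℝ)⁻¹ * ∑ g : G, ‖H.Φ H.φ₀ g‖ ^ 2 = 1 := by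
    have e := H.Φ_self H.mem₀
    rw [classInner_self_eq] at e
    exact_mod_cast e
  have hG0 : ((G0.card : ℝ)) / Nat.card G ≤ 1 / H.N := by
    have h1 : (G0.card : ℝ) ≤ ∑ g ∈ G0, ‖H.Φ H.φ₀ g‖ ^ 2 := by
      have := Finset.sum_le_sum hlow
      simpa using this
    have h2 : ∑ g ∈ G0, ‖H.Φ H.φ₀ g‖ ^ 2 + ∑ g ∈ suppH, ‖H.Φ H.φ₀ g‖ ^ 2 ≤ ∑ g : G, ‖H.Φ H.φ₀ g‖ ^ 2 := by
      rw [← Finset.sum_union hdisj]
      exact Finset.sum_le_sum_of_subset_of_nonneg (Finset.subset_univ _) fun g _ _ => sq_nonneg _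
    have hg0 : (0 : ℝ) ≤ (Nat.card G : ℝ)⁻¹ := inv_nonneg.2 (Nat.cast_nonneg _)
    have h3 := mul_le_mul_of_nonneg_left (le_trans (add_le_add h1 le_rfl) h2) hg0
    rw [hnorm1, mul_add] at h3
    have hN0 : (3 : ℝ) ≤ H.N := by exact_mod_cast hN3
    have : ((H.N : ℝ) - 1) / H.N = 1 - 1 / H.N := by field_simp
    rw [div_eq_inv_mul]
    linarith
  -- the count
  have hTV : vSet W₁ W₂ ⊆ Dade.support (sideA T Q W₂ W₁) (fun _ => ⊥) := by
    rw [vSet_comm]; exact hT.vSet_subset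
  have hcover : (Nat.card G : ℝ) ≤ 1 + (Finset.univ.filter fun g : G =>
      g ∈ Dade.support (sideA S P W₁ W₂) (fun _ => ⊥) ∧ g ∉ vSet W₁ W₂).card +
      (Finset.univ.filter fun g : G => g ∈ Dade.support (sideA T Q W₂ W₁) (fun _ => ⊥)).card +
      suppH.card + G0.card := by
    rw [Nat.card_eq_fintype_card, ← Finset.card_univ]
    have hsub : (Finset.univ : Finset G) ⊆ {1} ∪ (Finset.univ.filter fun g : G =>
        g ∈ Dade.support (sideA S P W₁ W₂) (fun _ => ⊥) ∧ g ∉ vSet W₁ W₂) ∪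
        (Finset.univ.filter fun g : G => g ∈ Dade.support (sideA T Q W₂ W₁) (fun _ => ⊥)) ∪
        suppH ∪ G0 := fun g _ => by
      simp only [Finset.mem_union, Finset.mem_singleton, Finset.mem_filter, Finset.mem_univ, true_and,
        suppH, G0]
      have := @hTV g
      tauto
    refine le_trans (Nat.cast_le.2 (Finset.card_le_card hsub)) ?_
    refine le_trans (Nat.cast_le.2 (Finset.card_union_le _ _)) ?_
    push_cast
    refine add_le_add ?_ le_rfl
    refine le_trans (Nat.cast_le.2 (Finset.card_union_le _ _)) ?_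
    push_cast
    refine add_le_add ?_ le_rfl
    refine le_trans (Nat.cast_le.2 (Finset.card_union_le _ _)) ?_
    push_cast
    refine add_le_add ?_ le_rfl
    refine le_trans (Nat.cast_le.2 (Finset.card_union_le _ _)) ?_
    simp
  have hfH : (suppH.card : ℝ) / Nat.card G ≤ ((h : ℝ) - 1) / Nat.card H.X := by
    haveI := Fintype.ofFinite ↥H.X
    have hs' := Dade.sum_support H.dade (K := ℝ) (fun g => if g ∈ H.support then (1 : ℝ) else 0)
      (fun g x => if_congr (Dade.mem_support_conj_iff x) rfl rfl) (fun g hg => if_neg hg)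
    rw [Finset.sum_boole] at hs'
    rw [div_eq_inv_mul, hs', div_eq_inv_mul]
    refine mul_le_mul_of_nonneg_left ?_ (inv_nonneg.2 (Nat.cast_nonneg _))
    calc _ = ∑ x ∈ Finset.univ.filter (fun x : H.X => (x : G) ∈ H.A), (1 : ℝ) := by
          refine Finset.sum_congr rfl fun x hx => ?_
          have hu1 : ∀ u : H.R (x : G), (x : G) * u ∈ H.support := fun u =>
            ⟨x, (Finset.mem_filter.1 hx).2, u, u.2, 1, by group⟩
          rw [Finset.sum_congr rfl fun u _ => if_pos (hu1 u),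
            Finset.sum_const, Finset.card_univ, nsmul_eq_mul, mul_one, ← Nat.card_eq_fintype_card,
            inv_mul_cancel₀ (Nat.cast_ne_zero.2 Nat.card_pos.ne')]
      _ ≤ _ := by
          rw [Finset.sum_const, nsmul_eq_mul, mul_one, ← Fintype.card_subtype, ← Nat.card_eq_fintype_card]
          have hh : 1 ≤ h := by
            rcases Nat.eq_zero_or_pos h with e | e
            · rw [e] at hX; simp [Nat.card_pos.ne'] at hX
            · exact e
          have := (Nat.cast_le (α := ℝ)).2 hA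
          push_cast [Nat.cast_sub hh] at this
          exact this
  have hfS := hS.outside_fraction
  have hfT := hT.support_fraction
  rw [Nat.card_eq_fintype_card, Fintype.card_subtype] at hfS
  rw [Nat.card_coe_set_eq, Set.ncard_eq_toFinset_card',
    show (Dade.support (sideA T Q W₂ W₁) (fun _ => ⊥)).toFinset =
      Finset.univ.filter (fun g : G => g ∈ Dade.support (sideA T Q W₂ W₁) (fun _ => ⊥)) by ext; simp] at hfT
  set q := Nat.card W₁
  set p := Nat.card W₂
  set u := P.relIndex K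
  set v := Q.relIndex K'
  set g := Nat.card G
  have hp5 : 5 ≤ p := by
    have := hS.pd.three_le₁
    have := hS.p_prime.eq_two_or_odd
    omega
  have hq3 : 3 ≤ q := hS.pd.three_le₁
  have hg : p * q ≤ g := by
    have := Nat.le_of_dvd Nat.card_pos (Subgroup.card_subgroup_dvd_card (W₁ ⊔ W₂))
    rw [hS.card_W, mul_comm] at this
    exact this
  have hcS := hS.card_S
  rw [hS.card_K] at hcS
  have hcT := hT.card_S
  rw [hT.card_K] at hcT
  have hP1 : (1 : ℝ) ≤ Nat.card P := by exact_mod_cast (Nat.card_pos (α := P))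
  have hQ1 : (1 : ℝ) ≤ Nat.card Q := by exact_mod_cast (Nat.card_pos (α := Q))
  have hp0 : (5 : ℝ) ≤ p := by exact_mod_cast hp5
  have hq0 : (3 : ℝ) ≤ q := by exact_mod_cast hq3
  have hu0 : (p : ℝ) ≤ u := by exact_mod_cast hu
  have hv0 : (q : ℝ) ≤ v := by exact_mod_cast hv
  have hg0 : (p : ℝ) * q ≤ g := by exact_mod_cast hg
  have hN0 : (3 : ℝ) ≤ H.N := by exact_mod_cast hN3
  have b1 : ((Nat.card P : ℝ) - 1) / Nat.card S * (p * q) ≤ 1 := by
    rw [hcS, div_mul_eq_mul_div, div_le_one (by rw [← hcS]; exact_mod_cast Nat.card_pos)]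
    push_cast
    nlinarith [mul_le_mul_of_nonneg_right hu0 (show (0 : ℝ) ≤ Nat.card P * q by positivity)]
  have b2 : ((Nat.card Q : ℝ) - 1) / Nat.card T * (p * q) ≤ 1 := by
    rw [hcT, div_mul_eq_mul_div, div_le_one (by rw [← hcT]; exact_mod_cast Nat.card_pos)]
    push_cast
    nlinarith [mul_le_mul_of_nonneg_right hv0 (show (0 : ℝ) ≤ Nat.card Q * p by positivity)]
  have b3 : ((h : ℝ) - 1) / Nat.card H.X * (p * q) ≤ 1 := by
    rw [hX, he, div_mul_eq_mul_div, div_le_one (by have := Nat.card_pos (α := H.X); rw [hX, he] at this; exact_mod_cast this)]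
    push_cast
    nlinarith
  have b4 : (1 : ℝ) / g * (p * q) ≤ 1 := by
    rw [div_mul_eq_mul_div, one_mul, div_le_one (by nlinarith)]
    exact hg0
  have b5 : ((p : ℝ) - 1) * ((q : ℝ) - 1) / (p * q) * (p * q) = ((p : ℝ) - 1) * ((q : ℝ) - 1) :=
    div_mul_cancel₀ _ (by positivity)
  have hgpos : (0 : ℝ) < g := lt_of_lt_of_le (by positivity) hg0
  have hc1 : (1 : ℝ) ≤ 1 / g + ((Nat.card P : ℝ) - 1) / Nat.card S +
      (((Nat.card Q : ℝ) - 1) / Nat.card T + ((p : ℝ) - 1) * ((q : ℝ) - 1) / (p * q)) +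
      ((h : ℝ) - 1) / Nat.card H.X + 1 / H.N := by
    have h1 := div_le_div_of_nonneg_right hcover hgpos.le
    rw [div_self hgpos.ne', add_div, add_div, add_div, add_div] at h1
    linarith
  have hc2 := mul_le_mul_of_nonneg_right hc1 (show (0 : ℝ) ≤ p * q by positivity)
  simp only [add_mul, one_mul, b5] at hc2
  have h3 : (3 : ℝ) * H.N ≤ p * q := by
    have : 3 ≤ (1 : ℝ) / H.N * (p * q) := by nlinarith
    rw [div_mul_eq_mul_div, one_mul, le_div_iff₀ (by linarith)] at this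
    linarith
  have h3' : 3 * H.N ≤ p * q := by exact_mod_cast h3
  rw [← hN, he]
  nlinarith

end Cfsg.Agent.Peterfalvi.Sec14
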