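import Cfsg.Agent.Lib.Peterfalvi.Sec14.Hub
import Cfsg.Agent.Lib.CyclicTI.Rigid
import Cfsg.Agent.S1503
import Cfsg.Agent.S1506

/-!
# Peterfalvi section 14: hubs and the cyclic TI characters (owner: helper65)

* `eta_inv`, `Hub.Φ_eta`, `Hub.Φ_vanish`
* `Hub.exists_coeff` : the coefficients of `Δ` at the family, symmetric, with the rectangle rule
* `sum_odd_lower₁`, `sum_odd_lower₂` : lower bounds from odd coefficients
-/

set_option autoImplicit false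

namespace Cfsg.Agent.Peterfalvi.Sec14

open Cfsg Cfsg.Agent Cfsg.Agent.Char Cfsg.Agent.Coherence Cfsg.Agent.OddPartition Cfsg.Agent.CyclicTI
open scoped ComplexConjugate

universe u

variable {G : Type u} [Group G] [Fintype G] {W₁ W₂ : Subgroup G}
  {η : (↥(W₁ ⊔ W₂) →* ℂˣ) → G → ℂ}

theorem eta_gc (hη : IsCyclicTIFamily W₁ W₂ η) (ω : ↥(W₁ ⊔ W₂) →* ℂˣ) :
    IsGeneralizedCharacter G (η ω) := isGC_signed (hη.irr_or_neg ω)

theorem eta_self (hη : IsCyclicTIFamily W₁ W₂ η) (ω : ↥(W₁ ⊔ W₂) →* ℂˣ) :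
    classInner (η ω) (η ω) = 1 := by rw [hη.orthonormal, if_pos rfl]

theorem eta_orth (hη : IsCyclicTIFamily W₁ W₂ η) {ω ν : ↥(W₁ ⊔ W₂) →* ℂˣ} (h : ω ≠ ν) :
    classInner (η ω) (η ν) = 0 := by rw [hη.orthonormal, if_neg h]

theorem eta_triv (hη : IsCyclicTIFamily W₁ W₂ η) {ω : ↥(W₁ ⊔ W₂) →* ℂˣ} (h : ω ≠ 1) :
    classInner (η ω) (fun _ => 1) = 0 := by
  rw [← hη.map_one]; exact eta_orth hη h

/-- Complex conjugation of the family. -/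
theorem eta_inv (hW : IsSelfNormalizingCyclic W₁ W₂) (hodd : Odd (Nat.card ↥(W₁ ⊔ W₂)))
    (hη : IsCyclicTIFamily W₁ W₂ η) (ω : ↥(W₁ ⊔ W₂) →* ℂˣ) : η ω⁻¹ = conjFun (η ω) := by
  haveI := Fintype.ofFinite ↥(W₁ ⊔ W₂)
  refine (eq_of_eq_on hW hodd hη (signed_conjFun (hη.irr_or_neg ω)) ω⁻¹ fun w h1 h2 => ?_).symm
  rw [conjFun, hη.eq_on ω w h1 h2]
  have := IsCharacter.apply_inv (IsIrrCharacter.isCharacter (lin_irr ω)) w
  simp only [lin_apply, map_inv] at this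
  rw [← this, MonoidHom.inv_apply]

/-- A signed irreducible character meets at most one member of the family. -/
theorem exists_only (hη : IsCyclicTIFamily W₁ W₂ η) {x : G → ℂ} (hx : IsSignedIrr G x) :
    ∃ π, ∀ ν, ν ≠ π → classInner x (η ν) = 0 := by
  by_cases hex : ∃ π, classInner x (η π) ≠ 0
  · obtain ⟨π, hπ⟩ := hex
    refine ⟨π, fun ν hν => ?_⟩
    have ho := eta_orth hη (Ne.symm hν)
    rcases signed_eq_of_inner_ne hx (hη.irr_or_neg π) hπ with e | e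
    · rw [← e]; exact ho
    · rw [show x = -η π by rw [e, neg_neg], classInner_neg_left, ho, neg_zero]
  · push Not at hex
    exact ⟨1, fun ν _ => hex ν⟩

namespace Hub

variable (H : Hub G) (hW : IsSelfNormalizingCyclic W₁ W₂) (hodd : Odd (Nat.card ↥(W₁ ⊔ W₂)))
  (hη : IsCyclicTIFamily W₁ W₂ η)
  (hV : ∀ w : ↥(W₁ ⊔ W₂), (w : G) ∉ W₁ → (w : G) ∉ W₂ → (w : G) ∉ H.support)
include hW hodd hη hV

theorem Φ_eta {φ : ↥H.X → ℂ} (hφ : φ ∈ H.F) (ω : ↥(W₁ ⊔ W₂) →* ℂˣ) :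
    classInner (H.Φ φ) (η ω) = 0 := by
  have hc := H.conj_mem φ hφ
  have hθV : ∀ w : ↥(W₁ ⊔ W₂), (w : G) ∉ W₁ → (w : G) ∉ W₂ →
      (H.Φ φ - H.Φ (conjFun φ)) (w : G) = 0 := fun w a b => by
    rw [← H.tau_conj_sub hφ]
    exact Dade.dadeIsometry_eq_zero H.dade (hV w a b)
  have hcf : IsClassFunction G (H.Φ φ - H.Φ (conjFun φ)) :=
    isGC_isClassFunction (isGC_sub (H.Φ_gc hφ) (H.Φ_gc hc))
  obtain ⟨π₁, h₁⟩ := exists_only hη (H.Φ_signed hφ)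
  obtain ⟨π₂, h₂⟩ := exists_only hη (H.Φ_signed hc)
  have hall : ∀ ν, classInner (H.Φ φ - H.Φ (conjFun φ)) (η ν) = 0 := by
    have hsupp : ∀ π π', π = π₁ ∧ π' = π₂ ∨ π = π₂ ∧ π' = π₁ →
        classInner (H.Φ φ - H.Φ (conjFun φ)) (η π) = 0 := fun π π' hππ =>
      coeff_eq_zero hW hodd hη hcf hθV π π' fun ν a b => by
        rcases hππ with ⟨rfl, rfl⟩ | ⟨rfl, rfl⟩
        · rw [classInner_sub_left, h₁ ν a, h₂ ν b, sub_zero]
        · rw [classInner_sub_left, h₁ ν b, h₂ ν a, sub_zero]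
    intro ν
    by_cases a : ν = π₁
    · subst a; exact hsupp _ _ (Or.inl ⟨rfl, rfl⟩)
    · by_cases b : ν = π₂
      · subst b; exact hsupp _ _ (Or.inr ⟨rfl, rfl⟩)
      · rw [classInner_sub_left, h₁ ν a, h₂ ν b, sub_zero]
  by_contra hne
  have e := sub_eq_zero.1 ((classInner_sub_left _ _ _).symm.trans (hall ω))
  have ho := H.Φ_orth hφ hc (Ne.symm (H.conj_ne φ hφ))
  rcases (classInner_signed (H.Φ_signed hφ) (hη.irr_or_neg ω)).2 with h | ⟨h, h'⟩ | ⟨h, h'⟩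
  · exact hne h
  · rcases (classInner_signed (H.Φ_signed hc) (hη.irr_or_neg ω)).2 with g | ⟨g, g'⟩ | ⟨g, g'⟩
    · rw [e, g] at h'; exact zero_ne_one h'
    · rw [← g, h, H.Φ_self hφ] at ho; exact one_ne_zero ho
    · rw [e, g'] at h'; norm_num at h'
  · rcases (classInner_signed (H.Φ_signed hc) (hη.irr_or_neg ω)).2 with g | ⟨g, g'⟩ | ⟨g, g'⟩
    · rw [e, g] at h'; norm_num at h'
    · rw [e, g'] at h'; norm_num at h'
    · rw [show H.Φ (conjFun φ) = H.Φ φ from neg_injective (g.symm.trans h), H.Φ_self hφ] at ho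
      exact one_ne_zero ho

theorem Φ_vanish {φ : ↥H.X → ℂ} (hφ : φ ∈ H.F) (w : ↥(W₁ ⊔ W₂)) (h1 : (w : G) ∉ W₁)
    (h2 : (w : G) ∉ W₂) : H.Φ φ w = 0 := by
  rcases H.Φ_signed hφ with h | h
  · exact S1503.result W₁ W₂ hW η hη _ h (fun ω => H.Φ_eta hW hodd hη hV hφ ω) w h1 h2
  · have := S1503.result W₁ W₂ hW η hη _ h
      (fun ω => by rw [classInner_neg_left, H.Φ_eta hW hodd hη hV hφ ω, neg_zero]) w h1 h2
    simpa using this

/-- The coefficients of `Δ` at the family. -/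
theorem exists_coeff : ∃ a : (↥(W₁ ⊔ W₂) →* ℂˣ) → ℤ,
    (∀ π, classInner H.Δ (η π) = (a π : ℂ)) ∧ (∀ π, a π⁻¹ = a π) ∧
    ∀ hP : IsPair W₁ W₂, ∀ π, hP.lfst π ≠ 1 → hP.lsnd π ≠ 1 →
      a π + 1 = a (hP.lfst π) + a (hP.lsnd π) := by
  classical
  choose a ha using fun π => classInner_gc_int H.Δ_gc (eta_gc hη π)
  refine ⟨a, ha, fun π => ?_, fun hP π hf hs => ?_⟩
  · have e := inner_conj_eq H.Δ_gc (eta_gc hη π) H.Δ_real
    rw [← eta_inv hW hodd hη, ha, ha] at e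
    exact_mod_cast e
  · have hθV : ∀ w : ↥(W₁ ⊔ W₂), (w : G) ∉ W₁ → (w : G) ∉ W₂ → (H.T + H.Φ H.φ₀) (w : G) = 0 :=
      fun w x y => by
        rw [Pi.add_apply, H.T_zero (hV w x y), H.Φ_vanish hW hodd hη hV H.mem₀ w x y, add_zero]
    have hr := S1506.rectangle hP hη (isGC_isClassFunction (isGC_add H.T_gc (H.Φ_gc H.mem₀))) hθV
      (φ := hP.lfst π) (φ' := 1) (ψ := hP.lsnd π) (ψ' := 1)
      (fun w hw => hP.lfst_apply_of_mem₂ π hw) (fun w _ => rfl)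
      (fun w hw => hP.lsnd_apply_of_mem₁ π hw) (fun w _ => rfl)
    have e1 : ∀ ρ : ↥(W₁ ⊔ W₂) →* ℂˣ, ρ * 1 = ρ := fun ρ => MonoidHom.ext fun w => mul_one _
    have e2 : ∀ ρ : ↥(W₁ ⊔ W₂) →* ℂˣ, 1 * ρ = ρ := fun ρ => MonoidHom.ext fun w => one_mul _
    simp only [hP.lfst_mul_lsnd, e1, e2] at hr
    have e : ∀ ν, classInner (H.T + H.Φ H.φ₀) (η ν) = (a ν : ℂ) + if ν = 1 then 1 else 0 := fun ν => by
      rw [show H.T + H.Φ H.φ₀ = H.Δ + fun _ => 1 from by rw [H.T_eq]; abel, classInner_add_left, ha,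
        ← hη.map_one, hη.orthonormal]
      congr 1
      simp only [eq_comm]
    have ha1 : a 1 = 0 := by
      have := ha 1
      rw [hη.map_one, H.Δ_triv] at this
      exact_mod_cast this.symm
    have hπ : π ≠ 1 := fun h => hf (by rw [h]; ext w; simp [IsPair.lfst])
    rw [e, e, e, e, if_neg hπ, if_pos rfl, if_neg hf, if_neg hs, ha1] at hr
    have : ((a π + 1 : ℤ) : ℂ) = ((a (hP.lfst π) + a (hP.lsnd π) : ℤ) : ℂ) := by
      push_cast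
      push_cast at hr
      linear_combination hr
    exact_mod_cast this

end Hub

section Counting

variable [Fintype (↥(W₁ ⊔ W₂) →* ℂˣ)]

open Classical in
/-- If all coefficients at the characters trivial on `W₁` are odd. -/
theorem sum_odd_lower₁ (hW : IsSelfNormalizingCyclic W₁ W₂) (a : (↥(W₁ ⊔ W₂) →* ℂˣ) → ℤ)
    (hb : ∀ π : ↥(W₁ ⊔ W₂) →* ℂˣ, π ≠ 1 → (∀ w : ↥(W₁ ⊔ W₂), (w : G) ∈ W₁ → π w = 1) → Odd (a π)) :
    (Nat.card W₂ : ℤ) - 1 ≤ ∑ π ∈ Finset.univ.erase (1 : ↥(W₁ ⊔ W₂) →* ℂˣ), a π ^ 2 := by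
  set s := (Finset.univ.filter fun π : ↥(W₁ ⊔ W₂) →* ℂˣ =>
    ∀ w : ↥(W₁ ⊔ W₂), (w : G) ∈ W₁ → π w = 1).erase 1 with hs
  have hcard : (s.card : ℤ) = (Nat.card W₂ : ℤ) - 1 := by
    have h2 : (Finset.univ.filter fun π : ↥(W₁ ⊔ W₂) →* ℂˣ =>
        ∀ w : ↥(W₁ ⊔ W₂), (w : G) ∈ W₁ → π w = 1).card = Nat.card W₂ := by
      rw [← card_lin_factor₂ (isPair_of_selfNormalizing hW) (comm_of_selfNormalizing hW),
        Nat.card_eq_fintype_card, Fintype.card_subtype]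
    rw [hs, Finset.card_erase_of_mem (by simp), h2, Nat.cast_sub Nat.card_pos]
    rfl
  rw [← hcard]
  calc (s.card : ℤ) = ∑ π ∈ s, (1 : ℤ) := by simp
    _ ≤ ∑ π ∈ s, a π ^ 2 := Finset.sum_le_sum fun π hπ => by
        rw [hs, Finset.mem_erase, Finset.mem_filter] at hπ
        obtain ⟨k, hk⟩ := hb π hπ.1 hπ.2.2
        exact Int.add_one_le_iff.2 (sq_pos_of_ne_zero (show a π ≠ 0 by omega))
    _ ≤ _ := Finset.sum_le_sum_of_subset_of_nonneg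
        (Finset.erase_subset_erase _ (Finset.subset_univ _)) fun _ _ _ => sq_nonneg _

open Classical in
/-- If all coefficients are odd. -/
theorem sum_odd_lower₂ (hW : IsSelfNormalizingCyclic W₁ W₂) (a : (↥(W₁ ⊔ W₂) →* ℂˣ) → ℤ)
    (hb : ∀ π : ↥(W₁ ⊔ W₂) →* ℂˣ, π ≠ 1 → Odd (a π)) :
    (Nat.card ↥(W₁ ⊔ W₂) : ℤ) - 1 ≤ ∑ π ∈ Finset.univ.erase (1 : ↥(W₁ ⊔ W₂) →* ℂˣ), a π ^ 2 := by
  have hcard : (((Finset.univ.erase (1 : ↥(W₁ ⊔ W₂) →* ℂˣ)).card : ℕ) : ℤ) =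
      (Nat.card ↥(W₁ ⊔ W₂) : ℤ) - 1 := by
    rw [Finset.card_erase_of_mem (Finset.mem_univ _), Finset.card_univ,
      ← card_monoidHom_of_comm (comm_of_selfNormalizing hW), ← Nat.card_eq_fintype_card,
      Nat.cast_sub Nat.card_pos]
    rfl
  rw [← hcard]
  calc (((Finset.univ.erase (1 : ↥(W₁ ⊔ W₂) →* ℂˣ)).card : ℕ) : ℤ)
      = ∑ π ∈ Finset.univ.erase (1 : ↥(W₁ ⊔ W₂) →* ℂˣ), (1 : ℤ) := by simp
    _ ≤ _ := Finset.sum_le_sum fun π hπ => by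
        obtain ⟨k, hk⟩ := hb π (Finset.ne_of_mem_erase hπ)
        exact Int.add_one_le_iff.2 (sq_pos_of_ne_zero (show a π ≠ 0 by omega))

end Counting

end Cfsg.Agent.Peterfalvi.Sec14
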