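import Cfsg.Agent.Lib.Peterfalvi.Sec14.Assemble
import Cfsg.Agent.Lib.Peterfalvi.Sec13.Normalizer
import Cfsg.Agent.Lib.Peterfalvi.Sec13.Structure
import Cfsg.Agent.Lib.Peterfalvi.Sec12Main
import Cfsg.Agent.Lib.Peterfalvi.Sec12Partition
import Cfsg.Agent.S1472

/-!
# Peterfalvi section 14: the final contradiction (owner: helper65)

* `exists_pair` : a minimal simple group of odd order has a pair of subgroups of type P
* `final_configuration`, `field_model`, `coprime_quot` : the configuration of the final contradiction for a pair with `q < p`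
* `no_minSimpleOdd` : there is no minimal simple group of odd order
-/

set_option autoImplicit false

namespace Cfsg.Agent.Peterfalvi.Sec14

open scoped Pointwise commutatorElement
open Cfsg Cfsg.Agent OddMax

universe u

variable {G : Type u} [Group G] [Fintype G]

/-- A pair of subgroups of type P, ordered by the orders of the cyclic factors. -/
theorem exists_pair (hG : IsMinSimpleOddOrder G) :
    ∃ S T W₁ W₂ U V : Subgroup G, IsCoatom S ∧ IsCoatom T ∧ IsTypePWith S W₁ U W₂ ∧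
      IsTypePWith T W₂ V W₁ ∧ Nat.card W₁ < Nat.card W₂ := by
  have F := OddOrder14.sec16 hG
  obtain ⟨S, hS, hκ⟩ := Sec12.exists_kappa_nonempty hG F (OddOrder14.cover hG)
  obtain ⟨K, U, hKU⟩ := exists_decomp F.toSec15Facts hS
  have hK : K ≠ ⊥ := (kappa_nonempty_iff hKU).1 hκ
  obtain ⟨T, hT, hKst, hKstH⟩ := F.s1366 S hS K U hKU hK
  have hKs1 : sigmaCore S ⊓ Subgroup.centralizer (K : Set G) ≠ ⊥ :=
    F.s1354 S hS K hKU.cyclic hKU.hall
  obtain ⟨V, hKV⟩ := F.s1352_exists T hT _ ((F.s1351 T hT).2 _ hKstH) hKstH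
  obtain ⟨U', hn, hKn, hc, -⟩ := exists_typeP_compl hG F hS hKU hK
  have hSP := isTypePWith_mk hG F hS hKU hK hn hKn hc
  obtain ⟨V', hn', hKn', hc', -⟩ := exists_typeP_compl hG F hT hKV hKs1
  have hTP := isTypePWith_mk hG F hT hKV hKs1 hn' hKn' hc'
  rw [show sigmaCore T ⊓ Subgroup.centralizer
      ((sigmaCore S ⊓ Subgroup.centralizer (K : Set G) : Subgroup G) : Set G) = K from hKst.symm] at hTP
  set K' := sigmaCore S ⊓ Subgroup.centralizer (K : Set G)
  obtain ⟨-, -, hq, hp⟩ := pair_facts hG (noTypeV hG) hS hT hSP hTP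
  have hne : Nat.card K ≠ Nat.card K' :=
    (Sec13.pair_of_facts hG (sec9Facts hG) (sec11Facts hG (sec9Facts hG) (nonCoherence hG))
      (noTypeV hG) hS hT hSP hTP).left.ne.symm
  rcases lt_or_gt_of_ne hne with h | h
  · exact ⟨S, T, K, K', U', V', hS, hT, hSP, hTP, h⟩
  · exact ⟨T, S, K', K, V', U', hT, hS, hTP, hSP, h⟩

variable {S T W₁ W₂ U V : Subgroup G} {p q : ℕ}

/-- The kernel of the maximal subgroup over `N(U)` has order prime to `p q`. -/
theorem hub_coprime (h : Sec13.Pair S T W₁ W₂ U V p q) (hII : IsOfTypeII S) {L : Subgroup G}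
    (hL : IsCoatom L) (hNU : Subgroup.normalizer (U : Set G) ≤ L) (hf : Sec13.HubFacts S T W₁ U L) :
    (Nat.card (fittingHallOf L)).Coprime (p * q) := by
  have hG := h.left.hG
  have F := OddOrder14.sec16 hG
  have key : ∀ {r n : ℕ} {X : Subgroup G}, r.Prime → n ≠ 0 → IsCoatom X →
      Nat.card (fittingHallOf X) = r ^ n → (∀ g : G, L ≠ MulAut.conj g • X) →
      (Nat.card (fittingHallOf L)).Coprime r := by
    intro r n X hr hn hX hcard hnc
    refine (hr.coprime_iff_not_dvd.2 fun hd => ?_).symm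
    rw [hf.fitting_eq] at hd
    have hrL : r ∈ sigma L := OddMax.sigmaCore_pi L r hr hd
    have hrX : r ∈ sigma X := OddMax.sigmaCore_pi X r hr ((hcard ▸ dvd_pow_self r hn).trans
      (Subgroup.card_dvd_of_le (OddMax.fittingHallOf_le_sigmaCore hG hX)))
    obtain ⟨g, hg⟩ := F.sigma_disj X L hX hL ⟨r, hrX, hrL⟩
    exact hnc g hg
  refine Nat.Coprime.mul_right (key h.left.hp h.left.hq.ne_zero h.left.hyp.coatom h.left.card_P
    fun g e => ?_) (key h.left.hq h.left.hp.ne_zero h.right.hyp.coatom h.right.card_P fun g e => ?_)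
  · exact h.left.not_conj_left (h.left.U_not_normalized hII) g (e ▸ hNU)
  · exact h.not_conj_right g (e ▸ hNU)

/-- The configuration of the final contradiction. -/
theorem final_configuration (hG : IsMinSimpleOddOrder G)
    (hS : IsCoatom S) (hT : IsCoatom T) (hSP : IsTypePWith S W₁ U W₂)
    (hTP : IsTypePWith T W₂ V W₁) (hqp : Nat.card W₁ < Nat.card W₂) :
    ∃ (h : Sec13.Pair S T W₁ W₂ U V (Nat.card W₂) (Nat.card W₁)),
      IsGaloisPair S U (⊥ : Subgroup G) ∧ Sec13.cU S U = ⊥ ∧ IsCyclic U ∧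
      Nat.card U * (Nat.card W₂ - 1) = Nat.card W₂ ^ Nat.card W₁ - 1 ∧
      ∃ y ∈ fittingHallOf T, W₂.map (MulAut.conj y).toMonoidHom ≤ Subgroup.normalizer (U : Set G) := by
  have F9 := sec9Facts hG
  have F11 := sec11Facts hG F9 (nonCoherence hG)
  have hV := noTypeV hG
  have hfrob : ∀ M : Subgroup G, IsCoatom M → kappa M = ∅ → Sec12.FrobSigma M :=
    fun M a b => Sec12.frobSigma hG a b
  have h := Sec13.pair_of_facts hG F9 F11 hV hS hT hSP hTP
  have h11 := h.left.lt_of_not_typeII F11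
  have h11' := h.right.lt_of_not_typeII F11
  refine ⟨h, h.galois F9 hfrob h11 h11', h.cU_eq_bot F9 h11,
    (h.left.galois_facts F9 (h.cU_eq_bot F9 h11) (h.galois F9 hfrob h11 h11')).1, ?_⟩
  refine pair_conclusion F9 h hfrob h11 h11' hqp
    (fun L hL hNU hII => ⟨(h.hub_statement F9 F11 hfrob hII hL hNU).2.2, ?_⟩)
    (fun M hM hNV hII => ⟨(h.symm.hub_statement F9 F11 hfrob hII hM hNV).2.2, ?_⟩) ?_
  · exact hub_coprime h hII hL hNU (h.hub hfrob hII hL hNU)
  · exact hub_coprime h.symm hII hM hNV (h.symm.hub hfrob hII hM hNV)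
  · rcases type_of_typeP hG hV hT hTP with h2 | h34
    · exact Or.inl h2
    · refine Or.inr ?_
      rw [← typeCore_eq hG (OddOrder14.sec16 hG) hT, typeCore, if_pos h34]

/-- The field model of the configuration. -/
theorem field_model (F9 : Sec9Facts G) (h : Sec13.Pair S T W₁ W₂ U V p q)
    (hg : IsGaloisPair S U (⊥ : Subgroup G)) (hC : Sec13.cU S U = ⊥) :
    ∃ (K : Type) (_ : Field K) (_ : Fintype K) (f : G → K) (ψ : G → K),
      Fintype.card K = p ^ q ∧ Set.BijOn f (fittingHallOf S : Set G) Set.univ ∧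
      (∀ x ∈ fittingHallOf S, ∀ x' ∈ fittingHallOf S, f (x * x') = f x + f x') ∧
      (∀ u ∈ U, ψ u ≠ 0 ∧ ∀ x ∈ fittingHallOf S, f (u * x * u⁻¹) = ψ u * f x) ∧
      (∀ u ∈ U, ∀ u' ∈ U, ψ (u * u') = ψ u * ψ u') ∧ Set.InjOn ψ (U : Set G) ∧
      (∀ x ∈ fittingHallOf S, x ∈ W₂ ↔ f x ^ p = f x) := by
  obtain ⟨hK, hfp⟩ := h.left.chiefKernel F9
  obtain ⟨K, iK, iF, f, ψ, σ, hcard, hsurj, hadd, hker, hact, hmul, hone, hfix, -⟩ :=
    F9.galois_field S W₁ U W₂ ⊥ h.left.hyp hK hg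
  rw [h.left.stab_eq, hC] at hone
  rw [hfp, h.left.card₁] at hcard
  simp only [hfp, bot_sup_eq] at hfix
  letI := Fintype.ofFinite K
  refine ⟨K, iK, inferInstance, f, ψ, by rw [← Nat.card_eq_fintype_card]; exact hcard,
    ⟨fun x _ => trivial, fun x hx x' hx' e => ?_, hsurj⟩, hadd, hact, hmul,
    fun u hu u' hu' e => ?_, hfix⟩
  · have h1 := hadd _ (Subgroup.mul_mem _ hx (Subgroup.inv_mem _ hx')) x' hx'
    rw [inv_mul_cancel_right, e, right_eq_add] at h1
    exact mul_inv_eq_one.1 (Subgroup.mem_bot.1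
      ((hker _ (Subgroup.mul_mem _ hx (Subgroup.inv_mem _ hx'))).1 h1))
  · have h1 := hmul _ (U.mul_mem hu (U.inv_mem hu')) u' hu'
    rw [inv_mul_cancel_right, e, right_eq_mul₀ (hact u' hu').1] at h1
    exact mul_inv_eq_one.1 (Subgroup.mem_bot.1 ((hone _ (U.mul_mem hu (U.inv_mem hu'))).1 h1))

/-- A full order of `U` is prime to `p - 1`. -/
theorem coprime_quot (h : Sec13.Pair S T W₁ W₂ U V p q)
    (hu : Nat.card U * (p - 1) = p ^ q - 1) :
    Nat.Coprime ((p ^ q - 1) / (p - 1)) (p - 1) := by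
  refine coprime_of_full h.left.hp h.left.hq h.left.p_ne_two h.left.q_ne_two hu ?_
  have h1 := h.left.card_modEq_one (le_refl U) h.left.W₁_normalizes_U
  rw [Nat.ModEq, Nat.one_mod_eq_one.2 h.left.hq.ne_one] at h1
  exact h1

/-- There is no minimal simple group of odd order. -/
theorem no_minSimpleOdd (hG : IsMinSimpleOddOrder G) : False := by
  obtain ⟨S, T, W₁, W₂, U, V, hS, hT, hSP, hTP, hqp⟩ := exists_pair hG
  obtain ⟨h, hg, hC, -, hu, y, hy, hWy⟩ := final_configuration hG hS hT hSP hTP hqp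
  obtain ⟨K, _, _, f, ψ, hcard, hbij, hadd, hact, hmul, hinj, hfix⟩ :=
    field_model (sec9Facts hG) h hg hC
  haveI := Fact.mk h.left.hp
  haveI := Fact.mk h.left.hq
  refine Nat.not_lt.2 (S1472.result (Nat.card W₂) (Nat.card W₁) (coprime_quot h hu) K hcard
    (fittingHallOf S) U (fittingHallOf T) f ψ hbij hadd ?_ hact hmul hinj hu h.right.elem.1 ?_
    (fun x hx e => ?_) y hy fun x hx e => hWy ⟨x, (hfix x hx).2 e, rfl⟩) hqp
  · exact h.left.hyp.le_M.2.2.2.2.trans (OddTypeP.normal_of_map S)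
  · rw [h.right.card_P]
    exact Nat.Coprime.pow_left _ ((Nat.coprime_primes h.left.hq h.left.hp).2 h.left.ne.symm)
  · exact OddTypeP.normal_of_map T (h.right.hyp.le_M.2.2.2.1 ((hfix x hx).2 e))

end Cfsg.Agent.Peterfalvi.Sec14
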