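import Cfsg.Agent.Lib.Peterfalvi.Sec14.Parity
import Cfsg.Agent.S1509

/-!
# Peterfalvi section 14: the characters of a hub (owner: helper65)

A hub is a maximal subgroup `X` with a Dade hypothesis on `A`, a coherent set `F` of irreducible
characters supported on `A ∪ 1` and the character `ψ = Ind 1` of degree `e`.  `T` is the image of
`ψ - φ₀` and `T = 1 - Φ φ₀ + Δ` with `Δ` real.

* `Hub.exists_m`, `Hub.bound` : `Δ` has coefficient `d φ * m` at `Φ φ`, and at most `e - 1` remains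
  for anything orthogonal to the image of `F`
* `Hub.relation` : for two hubs with disjoint supports
-/

set_option autoImplicit false

namespace Cfsg.Agent.Peterfalvi.Sec14

open Cfsg Cfsg.Agent Cfsg.Agent.Char Cfsg.Agent.Coherence Cfsg.Agent.OddPartition
open scoped ComplexConjugate

universe u

/-- The data of a hub. -/
structure Hub (G : Type u) [Group G] [Fintype G] : Type u where
  /-- the maximal subgroup -/
  X : Subgroup G
  [instX : Fintype ↥X]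
  /-- the Dade set -/
  A : Set G
  /-- the Dade subgroups -/
  R : G → Subgroup G
  dade : DadeHypothesis A X R
  /-- the coherent characters -/
  F : Finset (↥X → ℂ)
  /-- a member of least degree -/
  φ₀ : ↥X → ℂ
  mem₀ : φ₀ ∈ F
  irr : ∀ φ ∈ F, IsIrrCharacter ↥X φ
  conj_mem : ∀ φ ∈ F, conjFun φ ∈ F
  conj_ne : ∀ φ ∈ F, conjFun φ ≠ φ
  /-- the least degree -/
  e : ℕ
  /-- the relative degree -/
  d : (↥X → ℂ) → ℕ
  deg : ∀ φ ∈ F, φ 1 = ((e * d φ : ℕ) : ℂ)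
  odd_d : ∀ φ ∈ F, Odd (d φ)
  d₀ : d φ₀ = 1
  supp : ∀ φ ∈ F, ∀ x : ↥X, x ≠ 1 → (x : G) ∉ A → φ x = 0
  /-- the character induced from the principal character -/
  ψ : ↥X → ℂ
  ψ_gc : IsGeneralizedCharacter ↥X ψ
  ψ_real : conjFun ψ = ψ
  ψ_one : ψ 1 = (e : ℂ)
  ψ_supp : ∀ x : ↥X, x ≠ 1 → (x : G) ∉ A → ψ x = 0
  ψ_norm : classInner ψ ψ = (e : ℂ)
  ψ_triv : classInner ψ (fun _ => 1) = 1
  ψ_orth : ∀ φ ∈ F, classInner ψ φ = 0
  /-- the coherent extension -/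
  Φ : (↥X → ℂ) → (G → ℂ)
  iso : IsLinearIsometryOn (zspan (↑F : Set (↥X → ℂ))) Φ
  agree : ∀ α ∈ zspanOn (↑F : Set (↥X → ℂ)) {1}ᶜ, Φ α = dadeIsometry A X R α

attribute [instance] Hub.instX

namespace Hub

variable {G : Type u} [Group G] [Fintype G] (H : Hub G)

/-- `β = ψ - φ₀`. -/
def β : ↥H.X → ℂ := H.ψ - H.φ₀

/-- `T = τ β`. -/
noncomputable def T : G → ℂ := dadeIsometry H.A H.X H.R H.β

/-- `Δ = T - 1 + Φ φ₀`. -/
noncomputable def Δ : G → ℂ := H.T - (fun _ => 1) + H.Φ H.φ₀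

/-- The support of the Dade map. -/
def support : Set G := Dade.support H.A H.R

/-- The sum of the squares of the relative degrees. -/
noncomputable def N : ℕ := ∑ φ ∈ H.F, H.d φ ^ 2

theorem T_eq : H.T = (fun _ => 1) - H.Φ H.φ₀ + H.Δ := by
  unfold Δ; abel

theorem mem_span {φ : ↥H.X → ℂ} (hφ : φ ∈ H.F) : φ ∈ zspan (↑H.F : Set (↥H.X → ℂ)) :=
  subset_zspan hφ

theorem Φ_gc {φ : ↥H.X → ℂ} (hφ : φ ∈ H.F) : IsGeneralizedCharacter G (H.Φ φ) :=
  H.iso.2.2.2 φ (H.mem_span hφ)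

theorem Φ_inner {φ φ' : ↥H.X → ℂ} (hφ : φ ∈ H.F) (hφ' : φ' ∈ H.F) :
    classInner (H.Φ φ) (H.Φ φ') = classInner φ φ' :=
  H.iso.2.2.1 φ (H.mem_span hφ) φ' (H.mem_span hφ')

theorem Φ_self {φ : ↥H.X → ℂ} (hφ : φ ∈ H.F) : classInner (H.Φ φ) (H.Φ φ) = 1 := by
  rw [H.Φ_inner hφ hφ, classInner_irr_self (H.irr φ hφ)]

theorem Φ_signed {φ : ↥H.X → ℂ} (hφ : φ ∈ H.F) : IsSignedIrr G (H.Φ φ) :=
  gc_norm_one (H.Φ_gc hφ) (H.Φ_self hφ)

theorem Φ_orth {φ φ' : ↥H.X → ℂ} (hφ : φ ∈ H.F) (hφ' : φ' ∈ H.F) (h : φ ≠ φ') :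
    classInner (H.Φ φ) (H.Φ φ') = 0 := by
  rw [H.Φ_inner hφ hφ', classInner_irr_of_ne (H.irr φ hφ) (H.irr φ' hφ') h]

theorem β_cf : IsClassFunction ↥H.X H.β :=
  isClassFunction_sub (isGC_isClassFunction H.ψ_gc) (IsIrrCharacter.isClassFunction (H.irr _ H.mem₀))

theorem β_one : H.β 1 = 0 := by
  rw [β, Pi.sub_apply, H.ψ_one, H.deg _ H.mem₀, H.d₀, mul_one, sub_self]

theorem β_supp (x : ↥H.X) (hx : (x : G) ∉ H.A) : H.β x = 0 := by
  by_cases h1 : x = 1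
  · rw [h1, H.β_one]
  · rw [β, Pi.sub_apply, H.ψ_supp x h1 hx, H.supp _ H.mem₀ x h1 hx, sub_self]

theorem T_gc : IsGeneralizedCharacter G H.T :=
  Dade.dadeIsometry_isGeneralized H.dade (isGC_sub H.ψ_gc (isGC_of_irr (H.irr _ H.mem₀))) H.β_supp

theorem T_zero {g : G} (hg : g ∉ H.support) : H.T g = 0 := Dade.dadeIsometry_eq_zero H.dade hg

/-- `φ - d φ • φ₀`. -/
def comb (φ : ↥H.X → ℂ) : ↥H.X → ℂ := φ - (H.d φ : ℤ) • H.φ₀

theorem comb_mem {φ : ↥H.X → ℂ} (hφ : φ ∈ H.F) :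
    H.comb φ ∈ zspanOn (↑H.F : Set (↥H.X → ℂ)) {1}ᶜ := by
  refine ⟨zspan_sub (H.mem_span hφ) (zspan_zsmul _ (H.mem_span H.mem₀)), fun x hx => ?_⟩
  rw [Set.mem_compl_iff, not_not, Set.mem_singleton_iff] at hx
  rw [hx, comb, Pi.sub_apply, Pi.smul_apply, H.deg φ hφ, H.deg _ H.mem₀, H.d₀]
  simp [mul_comm]

theorem comb_supp {φ : ↥H.X → ℂ} (hφ : φ ∈ H.F) (x : ↥H.X) (hx : (x : G) ∉ H.A) :
    H.comb φ x = 0 := by
  by_cases h1 : x = 1
  · exact (H.comb_mem hφ).2 x (by simp [h1])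
  · rw [comb, Pi.sub_apply, Pi.smul_apply, H.supp φ hφ x h1 hx, H.supp _ H.mem₀ x h1 hx, smul_zero,
      sub_zero]

theorem comb_cf {φ : ↥H.X → ℂ} (hφ : φ ∈ H.F) : IsClassFunction ↥H.X (H.comb φ) :=
  isGC_isClassFunction (isGC_sub (isGC_of_irr (H.irr φ hφ)) (isGC_zsmul (isGC_of_irr (H.irr _ H.mem₀)) _))

theorem tau_comb {φ : ↥H.X → ℂ} (hφ : φ ∈ H.F) :
    dadeIsometry H.A H.X H.R (H.comb φ) = H.Φ φ - (H.d φ : ℤ) • H.Φ H.φ₀ := by
  rw [← H.agree _ (H.comb_mem hφ), comb, sub_eq_add_neg, ← neg_smul,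
    H.iso.1 _ (H.mem_span hφ) _ (zspan_zsmul _ (H.mem_span H.mem₀)),
    H.iso.2.1 _ (H.mem_span H.mem₀) _, neg_smul, ← sub_eq_add_neg]

theorem tau_conj_sub {φ : ↥H.X → ℂ} (hφ : φ ∈ H.F) :
    dadeIsometry H.A H.X H.R (φ - conjFun φ) = H.Φ φ - H.Φ (conjFun φ) := by
  have hc := H.conj_mem φ hφ
  have hm : φ - conjFun φ ∈ zspanOn (↑H.F : Set (↥H.X → ℂ)) {1}ᶜ := by
    refine ⟨zspan_sub (H.mem_span hφ) (H.mem_span hc), fun x hx => ?_⟩
    rw [Set.mem_compl_iff, not_not, Set.mem_singleton_iff] at hx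
    rw [hx, Pi.sub_apply, conjFun, H.deg φ hφ, map_natCast, sub_self]
  rw [← H.agree _ hm, sub_eq_add_neg, ← neg_one_zsmul,
    H.iso.1 _ (H.mem_span hφ) _ (zspan_zsmul _ (H.mem_span hc)), H.iso.2.1 _ (H.mem_span hc) _,
    neg_one_zsmul, ← sub_eq_add_neg]

theorem Φ_one_eq {φ : ↥H.X → ℂ} (hφ : φ ∈ H.F) : H.Φ (conjFun φ) 1 = H.Φ φ 1 := by
  have h := congrFun (H.tau_conj_sub hφ) 1
  rw [dadeIsometry_one H.dade, Pi.sub_apply] at h
  exact (sub_eq_zero.1 h.symm).symm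

theorem signed_one_real {f : G → ℂ} (hf : IsSignedIrr G f) : conj (f 1) = f 1 ∧ f 1 ≠ 0 := by
  rcases hf with h | h
  · obtain ⟨n, hn⟩ := IsCharacter.exists_degree (IsIrrCharacter.isCharacter h)
    exact ⟨by rw [hn, map_natCast], IsIrrCharacter.apply_one_ne_zero h⟩
  · obtain ⟨n, hn⟩ := IsCharacter.exists_degree (IsIrrCharacter.isCharacter h)
    have e : f 1 = -(n : ℂ) := by rw [← hn]; simp
    exact ⟨by rw [e, map_neg, map_natCast], fun h0 => IsIrrCharacter.apply_one_ne_zero h (by simp [h0])⟩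

theorem Φ_conj {φ : ↥H.X → ℂ} (hφ : φ ∈ H.F) : H.Φ (conjFun φ) = conjFun (H.Φ φ) := by
  have hc := H.conj_mem φ hφ
  have hA := H.Φ_signed hφ
  have hB := H.Φ_signed hc
  have e : conjFun (H.Φ (conjFun φ)) - conjFun (H.Φ φ) = H.Φ φ - H.Φ (conjFun φ) := by
    rw [← H.tau_conj_sub hφ, ← conjFun_sub', ← neg_sub (H.Φ φ) (H.Φ (conjFun φ)), ← H.tau_conj_sub hφ,
      ← dadeIsometry_neg, ← dadeIsometry_conj]
    congr 1
    funext x
    simp [conjFun]
  have hi := congrArg (fun f => classInner f (H.Φ φ)) e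
  simp only [classInner_sub_left, H.Φ_self hφ, H.Φ_orth hc hφ (H.conj_ne φ hφ)] at hi
  have hA' := signed_conjFun hA
  have hB' := signed_conjFun hB
  have hcase : conjFun (H.Φ φ) = -H.Φ φ → False := fun h => by
    obtain ⟨h1, h2⟩ := signed_one_real hA
    have h3 := congrFun h 1
    rw [Pi.neg_apply, conjFun, h1] at h3
    exact h2 (by linear_combination h3 / 2)
  rcases (classInner_signed hB' hA).2 with h | ⟨h, -⟩ | ⟨h, h'⟩
  · rcases (classInner_signed hA' hA).2 with h2 | ⟨h2, h2'⟩ | ⟨h2, -⟩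
    · rw [h, h2] at hi; norm_num at hi
    · rw [h, h2'] at hi; norm_num at hi
    · exact (hcase (by conv_rhs => rw [h2, neg_neg])).elim
  · conv_rhs => rw [h, conjFun_conjFun]
  · rcases (classInner_signed hA' hA).2 with h2 | ⟨-, h2'⟩ | ⟨-, h2'⟩
    · rw [h', h2] at hi; norm_num at hi
    · rw [h', h2'] at hi; norm_num at hi
    · rw [h', h2'] at hi; norm_num at hi

theorem Φ_triv {φ : ↥H.X → ℂ} (hφ : φ ∈ H.F) : classInner (H.Φ φ) (fun _ => 1) = 0 := by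
  by_contra h
  have h1 : IsSignedIrr G (fun _ : G => (1 : ℂ)) := Or.inl irr_one
  have hr : conjFun (H.Φ φ) = H.Φ φ := by
    rcases signed_eq_of_inner_ne h1 (H.Φ_signed hφ) (by
      rw [← classInner_conj_symm, ne_eq, map_eq_zero]; exact h) with e | e <;> rw [e] <;> funext x <;>
      simp [conjFun]
  have e := H.Φ_orth hφ (H.conj_mem φ hφ) (Ne.symm (H.conj_ne φ hφ))
  rw [H.Φ_conj hφ, hr, H.Φ_self hφ] at e
  exact one_ne_zero e

theorem T_triv : classInner H.T (fun _ => 1) = 1 := by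
  rw [T, inner_dade_one H.dade H.β_cf H.β_supp, β, classInner_sub_left, H.ψ_triv, sub_eq_self]
  refine classInner_irr_of_ne (H.irr _ H.mem₀) irr_one fun e => H.conj_ne _ H.mem₀ ?_
  rw [e]
  funext x
  simp [conjFun]

theorem T_norm : classInner H.T H.T = (H.e : ℂ) + 1 := by
  rw [T, dadeIsometry_inner H.dade H.β_cf H.β_supp H.β_cf H.β_supp, β]
  have h := H.ψ_orth _ H.mem₀
  simp only [classInner_sub_left, classInner_sub_right, H.ψ_norm, classInner_irr_self (H.irr _ H.mem₀), h,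
    classInner_symm_zero h]
  ring

theorem Δ_gc : IsGeneralizedCharacter G H.Δ :=
  isGC_add (isGC_sub H.T_gc isGC_one) (H.Φ_gc H.mem₀)

theorem Δ_triv : classInner H.Δ (fun _ => 1) = 0 := by
  rw [Δ, classInner_add_left, classInner_sub_left, H.T_triv, inner_one_one,
    H.Φ_triv H.mem₀]
  ring

theorem Δ_real : conjFun H.Δ = H.Δ := by
  have e : conjFun H.T = H.T + (H.Φ H.φ₀ - H.Φ (conjFun H.φ₀)) := by
    rw [← H.tau_conj_sub H.mem₀, T, ← dadeIsometry_conj, ← dadeIsometry_add, β, conjFun_sub', H.ψ_real]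
    congr 1
    abel
  rw [Δ, conjFun_add', conjFun_sub', conjFun_one', e, ← H.Φ_conj H.mem₀]
  abel

theorem two_le_N : 2 ≤ H.N := by
  classical
  have hsub : {H.φ₀, conjFun H.φ₀} ⊆ H.F := by
    intro x hx
    simp only [Finset.mem_insert, Finset.mem_singleton] at hx
    rcases hx with rfl | rfl
    exacts [H.mem₀, H.conj_mem _ H.mem₀]
  refine le_trans ?_ (Finset.sum_le_sum_of_subset (f := fun φ => H.d φ ^ 2) hsub)
  rw [Finset.sum_pair (Ne.symm (H.conj_ne _ H.mem₀))]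
  have h1 := (H.odd_d _ (H.conj_mem _ H.mem₀)).pos
  rw [H.d₀]
  nlinarith

/-- The coefficients of `Δ` at the image of `F` and its norm. -/
theorem exists_m : ∃ m : ℤ, (∀ φ ∈ H.F, classInner H.Δ (H.Φ φ) = ((H.d φ * m : ℤ) : ℂ)) ∧
    classInner H.Δ H.Δ = (((H.e : ℤ) - 1 + 2 * m : ℤ) : ℂ) := by
  obtain ⟨m, hm⟩ := classInner_gc_int H.Δ_gc (H.Φ_gc H.mem₀)
  refine ⟨m, fun φ hφ => ?_, ?_⟩
  · by_cases hne : φ = H.φ₀
    · rw [hne, hm, H.d₀]
      push_cast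
      ring
    · have h : classInner H.T (H.Φ φ - (H.d φ : ℤ) • H.Φ H.φ₀) = (H.d φ : ℂ) := by
        rw [← H.tau_comb hφ, T, dadeIsometry_inner H.dade H.β_cf H.β_supp (H.comb_cf hφ) (H.comb_supp hφ),
          β, comb]
        simp only [classInner_sub_left, classInner_sub_right, classInner_zsmul_right, H.ψ_orth φ hφ,
          H.ψ_orth _ H.mem₀, classInner_irr_self (H.irr _ H.mem₀),
          classInner_irr_of_ne (H.irr _ H.mem₀) (H.irr φ hφ) (Ne.symm hne)]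
        push_cast
        ring
      have h2 : classInner H.T (H.Φ H.φ₀) = (m : ℂ) - 1 := by
        rw [← hm, Δ, classInner_add_left, classInner_sub_left, H.Φ_self H.mem₀,
          classInner_symm_zero (H.Φ_triv H.mem₀)]
        ring
      rw [Δ, classInner_add_left, classInner_sub_left, classInner_symm_zero (H.Φ_triv hφ),
        H.Φ_orth H.mem₀ hφ (Ne.symm hne)]
      rw [classInner_sub_right, classInner_zsmul_right, h2] at h
      push_cast at h ⊢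
      linear_combination h
  · have e := H.T_norm
    rw [H.T_eq] at e
    simp only [classInner_add_left, classInner_sub_left, classInner_add_right, classInner_sub_right,
      inner_one_one, H.Φ_self H.mem₀, H.Φ_triv H.mem₀,
      classInner_symm_zero (H.Φ_triv H.mem₀), H.Δ_triv, classInner_symm_zero H.Δ_triv, hm,
      classInner_symm_of_int hm] at e
    push_cast
    linear_combination e

/-- At most `e - 1` remains for an orthonormal family orthogonal to the image of `F`. -/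
theorem bound {ι : Type*} (s : Finset ι) (v : ι → G → ℂ) (hv : ∀ i ∈ s, classInner (v i) (v i) = 1)
    (ho : ∀ i ∈ s, ∀ j ∈ s, i ≠ j → classInner (v i) (v j) = 0)
    (hF : ∀ φ ∈ H.F, ∀ i ∈ s, classInner (H.Φ φ) (v i) = 0) {c : ι → ℤ}
    (hc : ∀ i ∈ s, classInner H.Δ (v i) = c i) :
    ∑ i ∈ s, c i ^ 2 ≤ (H.e : ℤ) - 1 ∧
      ((H.e : ℤ) - 1 ≤ ∑ i ∈ s, c i ^ 2 → 3 ≤ H.N → H.Δ = ∑ i ∈ s, (c i : ℂ) • v i) := by
  classical
  obtain ⟨m, hm, hn⟩ := H.exists_m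
  let w : ι ⊕ (↥H.X → ℂ) → G → ℂ := Sum.elim v H.Φ
  let b : ι ⊕ (↥H.X → ℂ) → ℤ := Sum.elim c (fun φ => (H.d φ : ℤ) * m)
  have key := sum_sq_le_norm (s.disjSum H.F) w (β := H.Δ) (c := b) ?_ ?_ ?_ hn
  · rw [Finset.sum_disjSum, Finset.sum_disjSum] at key
    simp only [w, b, Sum.elim_inl, Sum.elim_inr] at key
    have hsum : ∑ φ ∈ H.F, ((H.d φ : ℤ) * m) ^ 2 = (H.N : ℤ) * m ^ 2 := by
      rw [N, Nat.cast_sum, Finset.sum_mul]
      exact Finset.sum_congr rfl fun φ _ => by push_cast; ring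
    rw [hsum] at key
    have hN : (2 : ℤ) ≤ H.N := by exact_mod_cast H.two_le_N
    have hpos : 0 ≤ (H.N : ℤ) * m ^ 2 - 2 * m := by
      rcases le_or_gt m 0 with h | h
      · nlinarith [mul_nonneg (by linarith : (0 : ℤ) ≤ H.N) (sq_nonneg m)]
      · nlinarith [mul_le_mul_of_nonneg_right hN (sq_nonneg m)]
    refine ⟨by linarith [key.1], fun hle hN3 => ?_⟩
    have hm0 : m = 0 := by
      have h3 : (3 : ℤ) ≤ H.N := by exact_mod_cast hN3
      have h4 : (H.N : ℤ) * m ^ 2 - 2 * m ≤ 0 := by linarith [key.1]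
      have h5 : 3 * m ^ 2 - 2 * m ≤ 0 := by nlinarith [mul_le_mul_of_nonneg_right h3 (sq_nonneg m)]
      rcases lt_trichotomy m 0 with h | h | h
      · nlinarith
      · exact h
      · nlinarith
    subst hm0
    rw [key.2 (by linarith [key.1])]
    simp
  · rintro (i | φ) hi
    · exact hv i (Finset.inl_mem_disjSum.1 hi)
    · exact H.Φ_self (Finset.inr_mem_disjSum.1 hi)
  · rintro (i | φ) hi (j | φ') hj hne
    · exact ho i (Finset.inl_mem_disjSum.1 hi) j (Finset.inl_mem_disjSum.1 hj) fun e => hne (by rw [e])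
    · exact classInner_symm_zero (hF φ' (Finset.inr_mem_disjSum.1 hj) i (Finset.inl_mem_disjSum.1 hi))
    · exact hF φ (Finset.inr_mem_disjSum.1 hi) j (Finset.inl_mem_disjSum.1 hj)
    · exact H.Φ_orth (Finset.inr_mem_disjSum.1 hi) (Finset.inr_mem_disjSum.1 hj) fun e => hne (by rw [e])
  · rintro (i | φ) hi
    · exact hc i (Finset.inl_mem_disjSum.1 hi)
    · exact hm φ (Finset.inr_mem_disjSum.1 hi)

section Two

variable (M : Hub G) (hd : ∀ g ∈ H.support, g ∉ M.support)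
include hd

theorem inner_disjoint (α : ↥H.X → ℂ) (γ : ↥M.X → ℂ) :
    classInner (dadeIsometry H.A H.X H.R α) (dadeIsometry M.A M.X M.R γ) = 0 :=
  inner_eq_zero_of_disjoint fun g hg => Dade.dadeIsometry_eq_zero M.dade fun hgM =>
    hd g (by_contra fun h => hg (Dade.dadeIsometry_eq_zero H.dade h)) hgM

/-- The images of two hubs with disjoint supports are orthogonal. -/
theorem Φ_orth_hub {φ : ↥H.X → ℂ} (hφ : φ ∈ H.F) {φ' : ↥M.X → ℂ} (hφ' : φ' ∈ M.F) :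
    classInner (H.Φ φ) (M.Φ φ') = 0 := by
  refine (S1509.result (H.Φ φ) (H.Φ (conjFun φ)) (M.Φ φ') (M.Φ (conjFun φ')) (H.Φ_signed hφ)
    (H.Φ_signed (H.conj_mem φ hφ)) (M.Φ_signed hφ') (M.Φ_signed (M.conj_mem φ' hφ')) 1 1 one_ne_zero
    one_ne_zero (H.Φ_orth hφ (H.conj_mem φ hφ) (Ne.symm (H.conj_ne φ hφ)))
    (M.Φ_orth hφ' (M.conj_mem φ' hφ') (Ne.symm (M.conj_ne φ' hφ'))) ?_ (H.Φ_one_eq hφ).symm
    (by simp [M.Φ_one_eq hφ'])).1
  rw [Complex.ofReal_one, one_smul, one_smul, ← H.tau_conj_sub hφ, ← M.tau_conj_sub hφ']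
  exact H.inner_disjoint M hd _ _

theorem inner_Δ_Φ {φ : ↥M.X → ℂ} (hφ : φ ∈ M.F) :
    classInner H.Δ (M.Φ φ) = (M.d φ : ℂ) * classInner H.Δ (M.Φ M.φ₀) := by
  have h := H.inner_disjoint M hd H.β (M.comb φ)
  rw [M.tau_comb hφ, classInner_sub_right, classInner_zsmul_right] at h
  have e : ∀ χ ∈ M.F, classInner H.Δ (M.Φ χ) = classInner (dadeIsometry H.A H.X H.R H.β) (M.Φ χ) :=
    fun χ hχ => by
      rw [Δ, T, classInner_add_left, classInner_sub_left, H.Φ_orth_hub M hd H.mem₀ hχ,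
        classInner_symm_zero (M.Φ_triv hχ), sub_zero, add_zero]
  rw [e φ hφ, e _ M.mem₀]
  push_cast at h
  linear_combination h

/-- The parity relation of two hubs with disjoint supports. -/
theorem relation (hodd : Odd (Nat.card G)) : ∃ x y : ℤ, Odd (x + y) ∧
    (∀ φ ∈ H.F, classInner M.Δ (H.Φ φ) = ((H.d φ * x : ℤ) : ℂ)) ∧
    (∀ φ ∈ M.F, classInner H.Δ (M.Φ φ) = ((M.d φ * y : ℤ) : ℂ)) := by
  have hd' : ∀ g ∈ M.support, g ∉ H.support := fun g hg h => hd g h hg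
  obtain ⟨y, hy⟩ := classInner_gc_int H.Δ_gc (M.Φ_gc M.mem₀)
  obtain ⟨x, hx⟩ := classInner_gc_int M.Δ_gc (H.Φ_gc H.mem₀)
  obtain ⟨k, hk⟩ := even_inner hodd H.Δ_gc M.Δ_gc H.Δ_real M.Δ_real H.Δ_triv
  refine ⟨x, y, ⟨k, ?_⟩, fun φ hφ => ?_, fun φ hφ => ?_⟩
  · have e := H.inner_disjoint M hd H.β M.β
    rw [show dadeIsometry H.A H.X H.R H.β = H.T from rfl, show dadeIsometry M.A M.X M.R M.β = M.T from rfl,
      H.T_eq, M.T_eq] at e
    simp only [classInner_add_left, classInner_sub_left, classInner_add_right, classInner_sub_right,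
      inner_one_one, H.Φ_triv H.mem₀, classInner_symm_zero (M.Φ_triv M.mem₀),
      H.Φ_orth_hub M hd H.mem₀ M.mem₀, H.Δ_triv, classInner_symm_zero M.Δ_triv, hy,
      classInner_symm_of_int hx, hk] at e
    have : ((x + y : ℤ) : ℂ) = ((2 * k + 1 : ℤ) : ℂ) := by
      push_cast
      push_cast at e
      linear_combination -e
    exact_mod_cast this
  · rw [M.inner_Δ_Φ H hd' hφ, hx]
    push_cast
    rfl
  · rw [H.inner_Δ_Φ M hd hφ, hy]
    push_cast
    rfl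

end Two

end Hub

end Cfsg.Agent.Peterfalvi.Sec14
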