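import Cfsg.Agent.Lib.Peterfalvi.Sec14.Energy
import Cfsg.Agent.Lib.Peterfalvi.Sec14.Arith
import Cfsg.Agent.Lib.CyclicTI.Exists

/-!
# Peterfalvi section 14: the abstract argument (owner: helper65)

* `Kernel H pq h` : the arithmetic attached to a hub with kernel of order `h`
* `Second H W₁ W₂ v` : a second hub with support disjoint from the one of `H`
* `main` : the hub of the first side has degree `p * q` and its kernel has order `u` or `v`
-/

set_option autoImplicit false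

namespace Cfsg.Agent.Peterfalvi.Sec14

open Cfsg Cfsg.Agent Cfsg.Agent.Char Cfsg.Agent.Coherence Cfsg.Agent.OddPartition Cfsg.Agent.CyclicTI
open scoped ComplexConjugate

universe u

variable {G : Type u} [Group G] [Fintype G]

/-- The kernel data of a hub. -/
structure Kernel (H : Hub G) (W₁ W₂ : Subgroup G) (h : ℕ) : Prop where
  hN : H.N * H.e = h - 1
  hX : Nat.card H.X = h * H.e
  hA : Nat.card {x : ↥H.X // (x : G) ∈ H.A} ≤ h - 1
  coprime : ∀ a ∈ H.A, (orderOf a).Coprime (Nat.card W₁ * Nat.card W₂)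
  odd : h % 2 = 1

/-- A second hub. -/
structure Second (H : Hub G) (W₁ W₂ : Subgroup G) (v : ℕ) (M : Hub G) : Prop where
  disjoint : ∀ g ∈ H.support, g ∉ M.support
  avoid : ∀ w : ↥(W₁ ⊔ W₂), (w : G) ∉ W₁ → (w : G) ∉ W₂ → (w : G) ∉ M.support
  e_le : M.e ≤ Nat.card W₁ * Nat.card W₂
  v_le : v - 1 ≤ M.e * M.N

variable {S K P T K' Q W₁ W₂ : Subgroup G}

open Classical in
/-- The abstract argument. -/
theorem main (hoddG : Odd (Nat.card G)) (hS : Side S K P W₁ W₂) (hT : Side T K' Q W₂ W₁)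
    (hqp : Nat.card W₁ < Nat.card W₂)
    (hu : P.relIndex K * (Nat.card W₂ - 1) = Nat.card W₂ ^ Nat.card W₁ - 1 ∨
      P.relIndex K * Nat.card W₁ * (Nat.card W₂ - 1) = Nat.card W₂ ^ Nat.card W₁ - 1)
    (hv : Q.relIndex K' * (Nat.card W₁ - 1) = Nat.card W₁ ^ Nat.card W₂ - 1)
    (H : Hub G) {h : ℕ} (hk : Kernel H W₁ W₂ h) (huh : P.relIndex K ∣ h)
    (he : (H.e = Nat.card W₁ ∧ h ≠ P.relIndex K) ∨ H.e = Nat.card W₁ * Nat.card W₂)
    {C : Prop} (hC : C → Q.relIndex K' ∣ h)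
    (hM : C ∨ ∃ M : Hub G, Second H W₁ W₂ (Q.relIndex K') M) :
    H.e = Nat.card W₁ * Nat.card W₂ ∧
      ((h = P.relIndex K ∧ P.relIndex K * (Nat.card W₂ - 1) = Nat.card W₂ ^ Nat.card W₁ - 1) ∨
        (C ∧ h = Q.relIndex K')) := by
  haveI := Fintype.ofFinite ↥S
  haveI := finite_lin ↥(W₁ ⊔ W₂)
  haveI := Fintype.ofFinite (↥(W₁ ⊔ W₂) →* ℂˣ)
  have hW := hS.pd.ti
  have hoddW := hS.odd_W
  obtain ⟨η, hη⟩ := exists_family hW hoddW
  have hV : ∀ w : ↥(W₁ ⊔ W₂), (w : G) ∉ W₁ → (w : G) ∉ W₂ → (w : G) ∉ H.support :=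
    fun w h1 h2 hw => hS.disjoint_hub H hk.coprime _ hw (hS.mem_support_of_mem (hS.pd.mem_a0Set h1 h2))
  obtain ⟨a, ha, hainv, harect⟩ := H.exists_coeff hW hoddW hη hV
  obtain ⟨c, hb, hcN⟩ := hS.hub_relation hoddG hη H (hS.disjoint_hub H hk.coprime) a ha
  obtain ⟨c', ha', hc'N⟩ := hT.hub_relation_swap hoddG hη H
    (hT.disjoint_hub H fun x hx => by rw [mul_comm]; exact hk.coprime x hx) a ha
  have hq := hS.q_prime
  have hp := hS.p_prime
  have hq3 := hS.pd.three_le₁
  have huq := hS.u_mod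
  set q := Nat.card W₁
  set p := Nat.card W₂
  set u := P.relIndex K
  set v := Q.relIndex K'
  have hq2 : q ≠ 2 := by omega
  have hu1 : 1 ≤ u := Nat.one_le_iff_ne_zero.2 fun e => by simp [e] at huq
  set s := Finset.univ.erase (1 : ↥(W₁ ⊔ W₂) →* ℂˣ) with hs
  have hbound : ∑ π ∈ s, a π ^ 2 ≤ (H.e : ℤ) - 1 :=
    (H.bound s η (fun π _ => eta_self hη π) (fun π _ π' _ hne => eta_orth hη hne)
      (fun φ hφ π _ => H.Φ_eta hW hoddW hη hV hφ π) (fun π _ => ha π)).1
  have hB : ¬ Odd c → (p : ℤ) - 1 ≤ ∑ π ∈ s, a π ^ 2 := fun hc => by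
    refine sum_odd_lower₁ hW a fun π h1 h2 => ?_
    obtain ⟨k, hk'⟩ := hb π ⟨h1, h2⟩
    rw [Int.not_odd_iff] at hc
    exact ⟨k - c / 2, by omega⟩
  have hAll : ¬ Odd c → ¬ Odd c' → (q : ℤ) * p - 1 ≤ ∑ π ∈ s, a π ^ 2 := fun hc hc' => by
    have hall : ∀ π : ↥(W₁ ⊔ W₂) →* ℂˣ, π ≠ 1 → Odd (a π) := by
      have hP := hS.pd.isPair
      have hodd1 : ∀ π, RowIdx π → Odd (a π) := fun π hπ => by
        obtain ⟨k, hk'⟩ := hb π hπ
        rw [Int.not_odd_iff] at hc
        exact ⟨k - c / 2, by omega⟩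
      have hodd2 : ∀ π, ColIdx π → Odd (a π) := fun π hπ => by
        obtain ⟨k, hk'⟩ := ha' π hπ
        rw [Int.not_odd_iff] at hc'
        exact ⟨k - c' / 2, by omega⟩
      intro π hπ
      by_cases hf : hP.lfst π = 1
      · have e : hP.lsnd π = π := by
          have := hP.lfst_mul_lsnd π
          rw [hf] at this
          exact (MonoidHom.ext fun w => one_mul _).symm.trans this
        exact hodd1 π ⟨hπ, fun w hw => by rw [← e]; exact hP.lsnd_apply_of_mem₁ π hw⟩
      by_cases hs' : hP.lsnd π = 1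
      · have e : hP.lfst π = π := by
          have := hP.lfst_mul_lsnd π
          rw [hs'] at this
          exact (MonoidHom.ext fun w => mul_one _).symm.trans this
        exact hodd2 π ⟨hπ, fun w hw => by rw [← e]; exact hP.lfst_apply_of_mem₂ π hw⟩
      obtain ⟨k₁, h₁⟩ := hodd2 _ ⟨hf, fun w hw => hP.lfst_apply_of_mem₂ π hw⟩
      obtain ⟨k₂, h₂⟩ := hodd1 _ ⟨hs', fun w hw => hP.lsnd_apply_of_mem₁ π hw⟩
      exact ⟨k₁ + k₂, by have := harect hP π hf hs'; omega⟩
    have := sum_odd_lower₂ hW a hall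
    rw [hS.card_W] at this
    exact_mod_cast this
  rcases he with ⟨heq, hne⟩ | hepq
  · -- degree `q`
    exfalso
    have hc : Odd c := by
      by_contra hc
      have := hB hc
      rw [heq] at hbound
      have : (q : ℤ) < p := by exact_mod_cast hqp
      linarith
    have h1 := hcN hc
    have h2 := hk.hN
    rw [heq, mul_comm] at h2
    have hpos : 0 < h := by have := hk.odd; omega
    exact hne (le_antisymm (by omega) (Nat.le_of_dvd hpos huh))
  refine ⟨hepq, ?_⟩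
  have hN := hk.hN
  rw [hepq] at hN
  have hh1 : 1 ≤ h := by have := hk.odd; omega
  have hmod : ∀ r, r ∣ q * p → 1 < r → h % r = 1 := fun r hr hr1 => by
    have hd : r ∣ h - 1 := hN ▸ hr.mul_left _
    rw [← Nat.sub_add_cancel hh1, Nat.add_mod, Nat.mod_eq_zero_of_dvd hd, zero_add, Nat.mod_mod,
      Nat.one_mod_eq_one.2 (by omega)]
  have horder := fun hb' => order_eq hp hq hq2 hqp hu huq huh hk.odd
    (hmod p (dvd_mul_left _ _) hp.one_lt) (hmod q (dvd_mul_right _ _) hq.one_lt) hb'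
  by_cases hc : Odd c
  · refine Or.inl (horder (Or.inl ?_))
    have h1 := hcN hc
    calc h - 1 = p * (q * H.N) := by rw [← hN]; ring
      _ ≤ p * (u - 1) := Nat.mul_le_mul_left _ h1
  rw [hepq] at hbound
  push_cast at hbound
  rcases hM with hC' | ⟨M, hM⟩
  · -- the conjugate case
    have hvh := hC hC'
    by_cases hc' : Odd c'
    · refine Or.inr ⟨hC', conj_eq hp hq hq2 hqp hv hvh hk.odd (hmod q (dvd_mul_right _ _) hq.one_lt) ?_⟩
      calc h - 1 = q * (p * H.N) := by rw [← hN]; ring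
        _ ≤ q * (v - 1) := Nat.mul_le_mul_left _ (hc'N hc')
    exfalso
    have hve := v_energy hp hq hq2 hqp hv
    have hvle : v - 1 ≤ h - 1 := Nat.sub_le_sub_right (Nat.le_of_dvd (by omega) hvh) 1
    have hpq : (q * p) ^ 2 = p ^ 2 * q ^ 2 := by ring
    have hN3 : 3 ≤ H.N := by
      by_contra hlt
      have h2 : H.N = 2 := le_antisymm (by omega) H.two_le_N
      rw [h2] at hN
      have : 6 * (q * p) ≤ (q * p) * (q * p) := Nat.mul_le_mul_right _ (by nlinarith)
      rw [show p ^ 2 * q ^ 2 = (q * p) * (q * p) by ring] at hve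
      omega
    have hu' : p ≤ u := by
      have h1 : p ^ 2 + 1 ≤ u * q := by
        rcases hu with e | e
        · have := (full_geom hp.two_le hq.two_le e).2.2
          have h2 : p ^ 2 ≤ p ^ (q - 1) := Nat.pow_le_pow_right hp.pos (by omega)
          have h3 : u ≤ u * q := Nat.le_mul_of_pos_right _ hq.pos
          omega
        · have := (full_geom hp.two_le hq.two_le e).2.2
          have h2 : p ^ 2 ≤ p ^ (q - 1) := Nat.pow_le_pow_right hp.pos (by omega)
          omega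
      by_contra hlt
      have h4 : u * q ≤ p * p := Nat.mul_le_mul (by omega) hqp.le
      rw [pow_two] at h1
      omega
    have hv' : q ≤ v := by
      have := (full_geom hq.two_le hp.two_le hv).2.2
      have h2 : q ≤ q ^ (p - 1) := Nat.le_self_pow (by omega) q
      omega
    have := H.energy hS hT hoddG hη hk.coprime hu' hv' hqp hepq hk.hN hN3 hk.hX hk.hA a ha
      (hAll hc hc')
    rw [hpq] at this
    omega
  -- the second hub
  obtain ⟨x, y, hxy, hx, hy⟩ := H.relation M hM.disjoint hoddG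
  have hNle : (∀ n : ℤ, n ≠ 0 → 1 ≤ n ^ 2) := fun n hn => Int.add_one_le_iff.2 (sq_pos_of_ne_zero hn)
  by_cases hxo : Odd x
  · refine Or.inl (horder (Or.inr (Or.inl ?_)))
    have hd' : ∀ g ∈ M.support, g ∉ H.support := fun g hg h' => hM.disjoint g h' hg
    have key := (M.bound H.F H.Φ (fun φ hφ => H.Φ_self hφ)
      (fun φ hφ φ' hφ' hne => H.Φ_orth hφ hφ' hne)
      (fun φ hφ φ' hφ' => M.Φ_orth_hub H hd' hφ hφ') hx).1
    have hx1 : 1 ≤ x ^ 2 := hNle x fun e => by rw [e] at hxo; exact Int.not_odd_zero hxo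
    have hsum : ∑ φ ∈ H.F, ((H.d φ : ℤ) * x) ^ 2 = (H.N : ℤ) * x ^ 2 := by
      rw [Hub.N, Nat.cast_sum, Finset.sum_mul]
      exact Finset.sum_congr rfl fun φ _ => by push_cast; ring
    rw [hsum] at key
    have h1 : H.N ≤ q * p := by
      have h2 := mul_le_mul_of_nonneg_left hx1 (show (0 : ℤ) ≤ H.N by positivity)
      have h3 : (M.e : ℤ) ≤ (q * p : ℕ) := by exact_mod_cast hM.e_le
      omega
    calc h - 1 = H.N * (q * p) := hN.symm
      _ ≤ (q * p) * (q * p) := Nat.mul_le_mul_right _ h1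
      _ = p ^ 2 * q ^ 2 := by ring
  have hyo : Odd y := by
    rw [Int.not_odd_iff_even] at hxo
    exact (Int.odd_add'.1 hxy).2 hxo
  have hy1 : 1 ≤ y ^ 2 := hNle y fun e => by rw [e] at hyo; exact Int.not_odd_zero hyo
  have hsum2 : ∑ π ∈ s, a π ^ 2 + (M.N : ℤ) ≤ (q : ℤ) * p - 1 := by
    have key := (H.bound (s.disjSum M.F) (Sum.elim η M.Φ)
      (c := Sum.elim a fun φ => (M.d φ : ℤ) * y) ?_ ?_ ?_ ?_).1
    · rw [Finset.sum_disjSum, hepq] at key
      simp only [Sum.elim_inl, Sum.elim_inr] at key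
      push_cast at key
      have hsum : ∑ φ ∈ M.F, ((M.d φ : ℤ) * y) ^ 2 = (M.N : ℤ) * y ^ 2 := by
        rw [Hub.N, Nat.cast_sum, Finset.sum_mul]
        exact Finset.sum_congr rfl fun φ _ => by push_cast; ring
      rw [hsum] at key
      nlinarith [mul_le_mul_of_nonneg_left hy1 (show (0 : ℤ) ≤ M.N by positivity)]
    · rintro (π | φ) hi
      · exact eta_self hη π
      · exact M.Φ_self (Finset.inr_mem_disjSum.1 hi)
    · rintro (π | φ) hi (π' | φ') hj hne
      · exact eta_orth hη fun e => hne (by rw [e])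
      · exact classInner_symm_zero (M.Φ_eta hW hoddW hη hM.avoid (Finset.inr_mem_disjSum.1 hj) π)
      · exact M.Φ_eta hW hoddW hη hM.avoid (Finset.inr_mem_disjSum.1 hi) π'
      · exact M.Φ_orth (Finset.inr_mem_disjSum.1 hi) (Finset.inr_mem_disjSum.1 hj) fun e => hne (by rw [e])
    · rintro φ hφ (π | φ') hi
      · exact H.Φ_eta hW hoddW hη hV hφ π
      · exact H.Φ_orth_hub M hM.disjoint hφ (Finset.inr_mem_disjSum.1 hi)
    · rintro (π | φ) hi
      · exact ha π
      · exact hy φ (Finset.inr_mem_disjSum.1 hi)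
  have h1 := hB hc
  have hM1 : (M.N : ℤ) ≤ p * (q - 1) := by linarith
  have hM2 : M.N ≤ p * (q - 1) := by
    have : ((p * (q - 1) : ℕ) : ℤ) = (p : ℤ) * ((q : ℤ) - 1) := by
      push_cast [Nat.cast_sub (show 1 ≤ q by omega)]; ring
    rw [← this] at hM1
    exact_mod_cast hM1
  rcases v_big hp hq hq2 hqp hv with ⟨hp5, hq3', hv121⟩ | hbig
  · by_cases hc' : Odd c'
    · refine Or.inl (horder (Or.inr (Or.inr ⟨hp5, hq3', ?_⟩)))
      have h4 := hc'N hc'
      rw [hp5, hv121] at h4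
      rw [← hN, hp5, hq3']
      omega
    · exfalso
      have := hAll hc hc'
      have hMpos : (2 : ℤ) ≤ M.N := by exact_mod_cast M.two_le_N
      linarith
  · exfalso
    have h4 : v - 1 ≤ (q * p) * (p * (q - 1)) := hM.v_le.trans (Nat.mul_le_mul hM.e_le hM2)
    have h5 : (q * p) * (p * (q - 1)) + q * p * p = p ^ 2 * q ^ 2 := by
      obtain ⟨r, hr⟩ : ∃ r, q = r + 1 := ⟨q - 1, by omega⟩
      rw [hr]
      simp only [Nat.add_sub_cancel]
      ring
    have h6 : 0 < q * p * p := Nat.mul_pos (Nat.mul_pos hq.pos hp.pos) hp.pos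
    omega

end Cfsg.Agent.Peterfalvi.Sec14
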