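import Cfsg.Agent.Lib.Peterfalvi.Sec14.Hub
import Cfsg.Agent.Lib.Coherence.TIFN
import Cfsg.Agent.Lib.CharApp.PermLemma

/-!
# Peterfalvi section 14: construction of hubs (owner: helper65)

* `exists_hub` : a hub from a normal subgroup `K` of `X` with coherent irreducible `inducedIrrAbove K K₀`
* `exists_hub_frob` : the Frobenius case `K₀ = ⊥`
* `exists_hub_uniform` : the case of an abelian section `K / K₀`
-/

set_option autoImplicit false

namespace Cfsg.Agent.Peterfalvi.Sec14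

open Cfsg Cfsg.Agent Cfsg.Agent.Char Cfsg.Agent.Coherence
open scoped ComplexConjugate commutatorElement

universe u

variable {G : Type u} [Group G] [Fintype G] {A : Set G} {X : Subgroup G} {R : G → Subgroup G}
  [Fintype ↥X] {K K₀ : Subgroup ↥X} [K.Normal] [K₀.Normal]

/-- A hub from a coherent set of irreducible induced characters. -/
theorem exists_hub (hoddX : Odd (Nat.card X)) (hD : DadeHypothesis A X R)
    (hKA : ∀ x ∈ K, x ≠ 1 → (x : G) ∈ A) (hlt : K₀ < K) (hsolv : Group.IsSolvable K)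
    (hirr : ∀ φ ∈ inducedIrrAbove K K₀, IsIrrCharacter ↥X φ)
    (hcoh : IsCoherent (inducedIrrAbove K K₀) {1}ᶜ (dadeIsometry A X R)) :
    ∃ H : Hub G, H.X = X ∧ H.A = A ∧ H.R = R ∧ H.e = K.index ∧
      H.N * K.index = K₀.relIndex K - 1 := by
  classical
  obtain ⟨-, τ₁, hiso, hagree⟩ := hcoh
  have hfin : (inducedIrrAbove K K₀).Finite := finite_induced.subset (inducedSet_le_bot K₀)
  have hF : (↑hfin.toFinset : Set (↥X → ℂ)) = inducedIrrAbove K K₀ := Set.Finite.coe_toFinset hfin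
  set F := hfin.toFinset
  have hmem : ∀ {φ}, φ ∈ F → φ ∈ inducedIrrAbove K K₀ := fun h => (Set.Finite.mem_toFinset hfin).1 h
  obtain ⟨φ₀, hφ₀, hd₀⟩ := exists_linear_mem K₀ hsolv hlt
  have he : (K.index : ℂ) ≠ 0 := Nat.cast_ne_zero.2 K.index_ne_zero_of_finite
  let dd : (↥X → ℂ) → ℕ := fun φ =>
    if h : φ ∈ inducedIrrAbove K K₀ then
      charDegree ((inducedSet_degree K₀ h).choose : ↥K → ℂ) else 0
  have hdd : ∀ φ ∈ F, φ 1 = ((K.index * dd φ : ℕ) : ℂ) := fun φ hφ => by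
    simp only [dd, dif_pos (hmem hφ)]
    exact (inducedSet_degree K₀ (hmem hφ)).choose_spec.2.2.2
  have hodd : ∀ φ ∈ F, Odd (dd φ) := fun φ hφ => by
    simp only [dd, dif_pos (hmem hφ)]
    set θ := (inducedSet_degree K₀ (hmem hφ)).choose
    obtain ⟨n, -, hn, hdvd⟩ := IsIrrCharacter.degree_dvd_card θ.2
    have e : (charDegree (θ : ↥K → ℂ) : ℂ) = (n : ℂ) := (TwoClassChar.deg_eq θ.2).symm.trans hn
    rw [show charDegree (θ : ↥K → ℂ) = n by exact_mod_cast e]
    exact (hoddX.of_dvd_nat (Subgroup.card_subgroup_dvd_card K)).of_dvd_nat hdvd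
  have hψ1 : ∀ x ∈ K, indFun K (fun _ : ↥K => (1 : ℂ)) x = (K.index : ℂ) := fun x hx => indOne_apply hx
  have hψ0 : ∀ x, x ∉ K → indFun K (fun _ : ↥K => (1 : ℂ)) x = 0 := fun x hx =>
    CliffordChar.indFun_not_mem K _ hx
  have hψtriv : classInner (indFun K (fun _ : ↥K => (1 : ℂ))) (fun _ => 1) = 1 := by
    haveI := Fintype.ofFinite ↥K
    rw [Char.frobenius_reciprocity K _ (χ := fun _ : ↥X => (1 : ℂ))
      (IsIrrCharacter.isClassFunction isIrrCharacter_one)]
    exact classInner_irr_self (χ := fun _ : ↥K => (1 : ℂ)) isIrrCharacter_one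
  have hmul : ∀ f : ↥X → ℂ, (∀ x, x ∉ K → f x = 0) →
      classInner f (indFun K (fun _ : ↥K => (1 : ℂ))) = (K.index : ℂ) * classInner f (fun _ => 1) := by
    intro f hf
    simp only [classInner, Finset.mul_sum]
    refine Finset.sum_congr rfl fun x _ => ?_
    by_cases hx : x ∈ K
    · rw [hψ1 x hx, map_natCast, map_one]; ring
    · rw [hf x hx]; simp
  refine ⟨{
    X := X
    A := A
    R := R
    dade := hD
    F := F
    φ₀ := φ₀
    mem₀ := (Set.Finite.mem_toFinset hfin).2 hφ₀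
    irr := fun φ hφ => hirr φ (hmem hφ)
    conj_mem := fun φ hφ => (Set.Finite.mem_toFinset hfin).2 (inducedSet_conj_mem K₀ (hmem hφ))
    conj_ne := fun φ hφ hc => ?_
    e := K.index
    d := dd
    deg := hdd
    odd_d := hodd
    d₀ := ?_
    supp := fun φ hφ x hx1 hxA => mem_inducedSet_supp (hmem hφ) x fun hx => hxA (hKA x hx hx1)
    ψ := indFun K (fun _ : ↥K => (1 : ℂ))
    ψ_gc := isGC_of_isCharacter
      (IsCharacter.indFun (H := K) (IsIrrCharacter.isCharacter isIrrCharacter_one))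
    ψ_real := ?_
    ψ_one := hψ1 1 K.one_mem
    ψ_supp := fun x hx1 hxA => hψ0 x fun hx => hxA (hKA x hx hx1)
    ψ_norm := ?_
    ψ_triv := hψtriv
    ψ_orth := fun φ hφ => ?_
    Φ := τ₁
    iso := hF.symm ▸ hiso
    agree := fun α hα => hagree α (hF ▸ hα) }, rfl, rfl, rfl, rfl, ?_⟩
  · have hone := CharApp.real_irr_of_odd hoddX (hirr φ (hmem hφ)) fun g =>
      Complex.conj_eq_iff_im.1 (congrFun hc g)
    have h0 := inner_one (inducedSet_le_bot K₀ (hmem hφ))
    rw [show φ = fun _ => 1 from funext fun x => by rw [hone]] at h0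
    rw [classInner_irr_self (χ := fun _ : ↥X => (1 : ℂ)) isIrrCharacter_one] at h0
    exact one_ne_zero h0
  · have h := hdd φ₀ ((Set.Finite.mem_toFinset hfin).2 hφ₀)
    rw [hd₀] at h
    have h' : K.index * 1 = K.index * dd φ₀ := by rw [mul_one]; exact_mod_cast h
    exact (Nat.eq_of_mul_eq_mul_left (Nat.pos_of_ne_zero K.index_ne_zero_of_finite) h').symm
  · funext x
    by_cases hx : x ∈ K
    · simp [conjFun, hψ1 x hx]
    · simp [conjFun, hψ0 x hx]
  · rw [hmul _ hψ0, hψtriv, mul_one]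
  · have h := hmul φ (mem_inducedSet_supp (hmem hφ))
    rw [inner_one (inducedSet_le_bot K₀ (hmem hφ)), mul_zero] at h
    exact classInner_symm_zero h
  · show (∑ φ ∈ F, dd φ ^ 2) * K.index = K₀.relIndex K - 1
    have h := sum_sq_div K₀ hlt.le F hF
    rw [Finset.sum_congr rfl (g := fun φ => ((K.index : ℂ) ^ 2) * ((dd φ ^ 2 : ℕ) : ℂ)) (fun φ hφ => by
      rw [classInner_irr_self (hirr φ (hmem hφ)), hdd φ hφ]; push_cast; ring), ← Finset.mul_sum,
      ← Nat.cast_sum, pow_two (K.index : ℂ), mul_assoc] at h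
    have h2 := mul_left_cancel₀ he h
    have hpos : 1 ≤ K₀.relIndex K := Nat.one_le_iff_ne_zero.2 Subgroup.index_ne_zero_of_finite
    rw [← Nat.cast_one, ← Nat.cast_sub hpos, ← Nat.cast_mul, Nat.cast_inj] at h2
    rw [mul_comm]
    exact h2

/-- The Frobenius case. -/
theorem exists_hub_frob (hoddX : Odd (Nat.card X)) (hD : DadeHypothesis A X R)
    (hKA : ∀ x ∈ K, x ≠ 1 → (x : G) ∈ A) (hC : FrobK K) (hK : K ≠ ⊥) (hsolv : Group.IsSolvable K)
    (hcoh : IsCoherent (inducedIrrAbove K ⊥) {1}ᶜ (dadeIsometry A X R)) :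
    ∃ H : Hub G, H.X = X ∧ H.A = A ∧ H.R = R ∧ H.e = K.index ∧ H.N * K.index = Nat.card K - 1 := by
  have h := exists_hub (K₀ := (⊥ : Subgroup ↥X)) hoddX hD hKA (bot_lt_iff_ne_bot.2 hK) hsolv
    (fun φ => hC.irr_of_mem) hcoh
  rwa [Subgroup.relIndex_bot_left] at h

/-- The case of an abelian section of one degree. -/
theorem exists_hub_uniform (hoddX : Odd (Nat.card X)) (hD : DadeHypothesis A X R)
    (hKA : ∀ x ∈ K, x ≠ 1 → (x : G) ∈ A) (hlt : K₀ < K) (hsolv : Group.IsSolvable K)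
    (hab : ⁅K, K⁆ ≤ K₀) (hirr : ∀ φ ∈ inducedIrrAbove K K₀, IsIrrCharacter ↥X φ) :
    ∃ H : Hub G, H.X = X ∧ H.A = A ∧ H.R = R ∧ H.e = K.index ∧
      H.N * K.index = K₀.relIndex K - 1 := by
  classical
  have hfin : (inducedIrrAbove K K₀).Finite := finite_induced.subset (inducedSet_le_bot K₀)
  have hF : (↑hfin.toFinset : Set (↥X → ℂ)) = inducedIrrAbove K K₀ := Set.Finite.coe_toFinset hfin
  have hz : ∀ α ∈ zspanOn (inducedIrrAbove K K₀) {1}ᶜ, IsClassFunction ↥X α ∧
      IsGeneralizedCharacter ↥X α ∧ ∀ x : ↥X, (x : G) ∉ A → α x = 0 := by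
    intro α hα
    have key : ∀ x, x ∉ K → α x = 0 :=
      zspan_induction (P := fun β : ↥X → ℂ => ∀ x, x ∉ K → β x = 0)
        (fun φ hφ => mem_inducedSet_supp hφ) (fun _ _ => rfl)
        (fun a _ b _ ha hb x hx => by simp [ha x hx, hb x hx]) (fun n a _ ha x hx => by simp [ha x hx]) hα.1
    have hgc := isGC_of_mem_zspan (fun φ hφ => isGC_of_irr (hirr φ hφ)) hα.1
    refine ⟨IsGeneralizedCharacter.isClassFunction hgc, hgc, fun x hx => ?_⟩
    by_cases h1 : x = 1
    · exact hα.2 x (by simp [h1])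
    · exact key x fun hm => hx (hKA x hm h1)
  have hτ : IsLinearIsometryOn (zspanOn (inducedIrrAbove K K₀) {1}ᶜ) (dadeIsometry A X R) :=
    ⟨fun α _ β _ => dadeIsometry_add α β, fun α _ n => dadeIsometry_zsmul n α,
      fun α hα β hβ => dadeIsometry_inner hD (hz α hα).1 (hz α hα).2.2 (hz β hβ).1 (hz β hβ).2.2,
      fun α hα => Dade.dadeIsometry_isGeneralized hD (hz α hα).2.1 (hz α hα).2.2⟩
  obtain ⟨φ₀, hφ₀, hd₀⟩ := exists_linear_mem K₀ hsolv hlt
  have hne : conjFun φ₀ ≠ φ₀ := fun hc => by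
    have hone := CharApp.real_irr_of_odd hoddX (hirr φ₀ hφ₀) fun g =>
      Complex.conj_eq_iff_im.1 (congrFun hc g)
    have h0 := inner_one (inducedSet_le_bot K₀ hφ₀)
    rw [show φ₀ = fun _ => 1 from funext fun x => by rw [hone],
      classInner_irr_self (χ := fun _ : ↥X => (1 : ℂ)) isIrrCharacter_one] at h0
    exact one_ne_zero h0
  have hcoh := irr_uniform hirr hτ (fun α _ => dadeIsometry_one hD α) hfin.toFinset hF.le
    ⟨conjFun φ₀, (Set.Finite.mem_toFinset hfin).2 (inducedSet_conj_mem K₀ hφ₀),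
      φ₀, (Set.Finite.mem_toFinset hfin).2 hφ₀, hne⟩
    (fun φ hφ ψ hψ => by
      rw [FrobK.degree_of_commutator_le hab ((Set.Finite.mem_toFinset hfin).1 hφ),
        FrobK.degree_of_commutator_le hab ((Set.Finite.mem_toFinset hfin).1 hψ)])
  rw [hF] at hcoh
  exact exists_hub hoddX hD hKA hlt hsolv hirr hcoh

end Cfsg.Agent.Peterfalvi.Sec14
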