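import Cfsg.Agent.Lib.Coherence.OddPartition
import Cfsg.Agent.Lib.Coherence.Extend
import Cfsg.Agent.Lib.Peterfalvi.DadeMap
import Cfsg.Agent.S0161

/-!
# Peterfalvi section 14: parity and Dade map helpers (owner: helper65)

* `inner_conj_eq` : a real virtual character has equal coefficients on conjugate virtual characters
* `even_inner` : in a group of odd order the inner product of two real virtual characters orthogonal
  to `1` is even
* `inner_eq_zero_of_disjoint`, `inner_dade_one`, `sum_sq_le_norm`, `norm_inner_sq_le`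
-/

set_option autoImplicit false

namespace Cfsg.Agent.Peterfalvi.Sec14

open Cfsg Cfsg.Agent Cfsg.Agent.Char Cfsg.Agent.Coherence
open scoped ComplexConjugate

variable {G : Type*} [Group G] [Fintype G]

theorem irr_one : IsIrrCharacter G (fun _ : G => (1 : ℂ)) := isIrrCharacter_one

theorem inner_one_one : classInner (fun _ : G => (1 : ℂ)) (fun _ => 1) = 1 :=
  classInner_irr_self irr_one

theorem isGC_one : IsGeneralizedCharacter G (fun _ : G => (1 : ℂ)) :=
  isGC_of_irr irr_one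

theorem inner_conj_eq {Γ x : G → ℂ} (hΓ : IsGeneralizedCharacter G Γ) (hx : IsGeneralizedCharacter G x)
    (hr : conjFun Γ = Γ) : classInner Γ (conjFun x) = classInner Γ x := by
  obtain ⟨n, hn⟩ := classInner_gc_int hΓ hx
  conv_lhs => rw [← hr]
  rw [classInner_conjFun, hn, map_intCast]

/-- The parity lemma. -/
theorem even_inner (hodd : Odd (Nat.card G)) {Γ Δ : G → ℂ} (hΓ : IsGeneralizedCharacter G Γ)
    (hΔ : IsGeneralizedCharacter G Δ) (hΓr : conjFun Γ = Γ) (hΔr : conjFun Δ = Δ)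
    (hΓ1 : classInner Γ (fun _ => 1) = 0) :
    ∃ n : ℤ, classInner Γ Δ = ((2 * n : ℤ) : ℂ) := by
  classical
  haveI := Fintype.ofFinite (IrrCharacter G)
  obtain ⟨b, hbsum, hb, -⟩ := gc_eq_sum hΔ
  obtain ⟨a, -, ha, -⟩ := gc_eq_sum hΓ
  have hinner : classInner Γ Δ = ((∑ χ : IrrCharacter G, b χ * a χ : ℤ) : ℂ) := by
    conv_lhs => arg 2; rw [hbsum]
    rw [classInner_sum_right, Int.cast_sum]
    refine Finset.sum_congr rfl fun χ _ => ?_
    rw [classInner_smul_right, ha, map_intCast, Int.cast_mul]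
  let σ : IrrCharacter G → IrrCharacter G := fun χ => ⟨conjFun (χ : G → ℂ), IsIrrCharacter.conj χ.2⟩
  have hσ : ∀ χ, σ (σ χ) = χ := fun χ => Subtype.ext (conjFun_conjFun _)
  have hfix : ∀ χ, σ χ = χ → a χ = 0 := by
    intro χ hχ
    have h := S0161.result hodd χ fun g =>
      Complex.conj_eq_iff_im.1 (congrFun (congrArg Subtype.val hχ) g)
    have h0 := ha χ
    rw [h, hΓ1] at h0
    exact_mod_cast h0.symm
  have hsymm : ∀ χ, a (σ χ) = a χ ∧ b (σ χ) = b χ := fun χ => by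
    constructor
    · have h := inner_conj_eq hΓ (isGC_of_irr χ.2) hΓr
      rw [ha χ, show conjFun (χ : G → ℂ) = (σ χ : G → ℂ) from rfl, ha (σ χ)] at h
      exact_mod_cast h
    · have h := inner_conj_eq hΔ (isGC_of_irr χ.2) hΔr
      rw [hb χ, show conjFun (χ : G → ℂ) = (σ χ : G → ℂ) from rfl, hb (σ χ)] at h
      exact_mod_cast h
  have hz : ((∑ χ : IrrCharacter G, b χ * a χ : ℤ) : ZMod 2) = 0 := by
    rw [Int.cast_sum]
    refine Finset.sum_ninvolution σ (fun χ => ?_) (fun χ hne e => hne ?_) (fun _ => Finset.mem_univ _) hσ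
    · rw [(hsymm χ).1, (hsymm χ).2]
      exact CharTwo.add_self_eq_zero _
    · rw [hfix χ e, mul_zero, Int.cast_zero]
  obtain ⟨n, hn⟩ := (ZMod.intCast_zmod_eq_zero_iff_dvd _ 2).1 hz
  exact ⟨n, by rw [hinner, hn]; norm_num⟩

/-- Functions with disjoint supports are orthogonal. -/
theorem inner_eq_zero_of_disjoint {X : Type*} [Group X] [Fintype X] {f g : X → ℂ}
    (h : ∀ x, f x ≠ 0 → g x = 0) : classInner f g = 0 := by
  rw [classInner, Finset.sum_eq_zero, mul_zero]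
  intro x _
  by_cases hf : f x = 0
  · rw [hf, zero_mul]
  · rw [h x hf, map_zero, mul_zero]

/-- Reciprocity of the Dade map with the principal character. -/
theorem inner_dade_one {A : Set G} {L : Subgroup G} {R : G → Subgroup G} [Fintype L]
    (hD : DadeHypothesis A L R) {α : L → ℂ} (hα : IsClassFunction L α)
    (hαA : ∀ x : L, (x : G) ∉ A → α x = 0) :
    classInner (dadeIsometry A L R α) (fun _ => 1) = classInner α (fun _ => 1) := by
  classical
  refine Dade.classInner_dade hD hα hαA _ _ (fun _ _ => rfl) fun a _ => ?_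
  rw [Finset.sum_const, Finset.card_univ, nsmul_eq_mul, mul_one, ← Nat.card_eq_fintype_card,
    inv_mul_cancel₀ (Nat.cast_ne_zero.2 Nat.card_pos.ne')]

/-- Bessel for an orthonormal family with integer coefficients. -/
theorem sum_sq_le_norm {ι : Type*} (s : Finset ι) (v : ι → G → ℂ)
    (hv : ∀ i ∈ s, classInner (v i) (v i) = 1)
    (ho : ∀ i ∈ s, ∀ j ∈ s, i ≠ j → classInner (v i) (v j) = 0) {β : G → ℂ} {c : ι → ℤ}
    (hc : ∀ i ∈ s, classInner β (v i) = c i) {n : ℤ} (hn : classInner β β = n) :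
    ∑ i ∈ s, c i ^ 2 ≤ n ∧ (n ≤ ∑ i ∈ s, c i ^ 2 → β = ∑ i ∈ s, (c i : ℂ) • v i) := by
  obtain ⟨h1, h2⟩ := bessel s v (fun _ => 1) (fun _ _ => one_pos)
    (fun i hi => by rw [hv i hi, Complex.ofReal_one]) ho β
  have e : ∀ i ∈ s, ‖classInner β (v i)‖ ^ 2 / (1 : ℝ) = ((c i ^ 2 : ℤ) : ℝ) := fun i hi => by
    rw [hc i hi, div_one, Complex.norm_intCast, sq_abs]
    push_cast
    rfl
  have hre : (classInner β β).re = (n : ℝ) := by rw [hn, Complex.intCast_re]
  rw [Finset.sum_congr rfl e, hre] at h1 h2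
  rw [← Int.cast_sum] at h1 h2
  refine ⟨by exact_mod_cast h1, fun h => ?_⟩
  rw [h2 (by exact_mod_cast h)]
  refine Finset.sum_congr rfl fun i hi => ?_
  rw [hc i hi, Complex.ofReal_one, div_one]

/-- Cauchy-Schwarz on the support of the second function. -/
theorem norm_inner_sq_le (A : Finset G) (ψ W : G → ℂ) (hW : ∀ x, x ∉ A → W x = 0) :
    ‖classInner ψ W‖ ^ 2 ≤ (classInner W W).re * ((Nat.card G : ℝ)⁻¹ * ∑ h ∈ A, ‖ψ h‖ ^ 2) := by
  classical
  have h1 : classInner ψ W = (Nat.card G : ℂ)⁻¹ * ∑ h ∈ A, ψ h * conj (W h) := by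
    rw [classInner]
    congr 1
    exact (Finset.sum_subset (Finset.subset_univ A) fun x _ hx => by rw [hW x hx]; simp).symm
  have h2 : (classInner W W).re = (Nat.card G : ℝ)⁻¹ * ∑ h ∈ A, ‖W h‖ ^ 2 := by
    rw [classInner_self_eq, Complex.ofReal_re]
    congr 1
    exact (Finset.sum_subset (Finset.subset_univ A) fun x _ hx => by rw [hW x hx]; simp).symm
  have hc : ‖∑ h ∈ A, ψ h * conj (W h)‖ ^ 2 ≤ (∑ h ∈ A, ‖W h‖ ^ 2) * ∑ h ∈ A, ‖ψ h‖ ^ 2 := by
    refine le_trans (pow_le_pow_left₀ (norm_nonneg _) (norm_sum_le _ _) 2) ?_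
    refine le_trans (le_of_eq ?_) (Finset.sum_mul_sq_le_sq_mul_sq A (fun h => ‖W h‖) (fun h => ‖ψ h‖))
    congr 1
    exact Finset.sum_congr rfl fun h _ => by rw [norm_mul, RCLike.norm_conj, mul_comm]
  rw [h1, h2, norm_mul, norm_inv, Complex.norm_natCast, mul_pow]
  calc ((Nat.card G : ℝ)⁻¹) ^ 2 * ‖∑ h ∈ A, ψ h * conj (W h)‖ ^ 2
      ≤ ((Nat.card G : ℝ)⁻¹) ^ 2 * ((∑ h ∈ A, ‖W h‖ ^ 2) * ∑ h ∈ A, ‖ψ h‖ ^ 2) :=
        mul_le_mul_of_nonneg_left hc (sq_nonneg _)
    _ = _ := by ring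

end Cfsg.Agent.Peterfalvi.Sec14
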