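import Cfsg.Agent.Lib.Peterfalvi.Sec14.Eta
import Cfsg.Agent.Lib.Peterfalvi.Sec5PrimeDade
import Cfsg.Agent.S1528

/-!
# Peterfalvi section 14: one side of the pair (owner: helper65)

`Side S K P W₁ W₂`: `P` abelian Sylow of order `p ^ q`, `K / P` acted on by `W₁`, `A = P \ 1`.

* `support_fraction`, `mem_support_of_dvd`, `disjoint_hub`
* `psiS_inner`, `mu_degree`
* `exists_gamma` : `τ (ψ - μ ω) = 1 - η ω + Γ`
* `hub_relation` : parity and norm relation with a hub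
-/

set_option autoImplicit false

namespace Cfsg.Agent.Peterfalvi.Sec14

open Cfsg Cfsg.Agent Cfsg.Agent.Char Cfsg.Agent.Coherence Cfsg.Agent.OddPartition Cfsg.Agent.CyclicTI
open scoped ComplexConjugate

universe u

variable {G : Type u} [Group G]

/-- The Dade set of a side. -/
abbrev sideA (S P W₁ W₂ : Subgroup G) : Set G := a0Set S W₁ W₂ ((P : Set G) \ {1})

/-- The hypotheses on one side. -/
structure Side (S K P W₁ W₂ : Subgroup G) : Prop where
  pd : PrimeDade S K P W₁ W₂ ((P : Set G) \ {1}) (fun _ => ⊥)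
  p_prime : (Nat.card W₂).Prime
  q_prime : (Nat.card W₁).Prime
  ne : Nat.card W₁ ≠ Nat.card W₂
  card_P : Nat.card P = Nat.card W₂ ^ Nat.card W₁
  P_comm : ∀ a ∈ P, ∀ b ∈ P, a * b = b * a
  sylow : ¬ Nat.card W₂ ∣ P.index
  fpf : ∀ k ∈ K, ∀ y ∈ P, y ≠ 1 → k * y = y * k → k ∈ P
  u_mod : P.relIndex K % Nat.card W₁ = 1

/-- A nontrivial character trivial on `W₁`. -/
def RowIdx {W₁ W₂ : Subgroup G} (ω : ↥(W₁ ⊔ W₂) →* ℂˣ) : Prop :=
  ω ≠ 1 ∧ ∀ w : ↥(W₁ ⊔ W₂), (w : G) ∈ W₁ → ω w = 1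

variable [Fintype G] {S K P W₁ W₂ : Subgroup G}

namespace Side

variable (h : Side S K P W₁ W₂)
include h

theorem P_le_S : P ≤ S := h.pd.H_le.trans h.pd.K_le

theorem card_K : Nat.card K = Nat.card P * P.relIndex K := by
  have := (P.subgroupOf K).card_mul_index
  rw [Nat.card_congr (Subgroup.subgroupOfEquivOfLe h.pd.H_le).toEquiv] at this
  exact this.symm

theorem card_S : Nat.card S = Nat.card K * Nat.card W₁ := by
  have := (K.subgroupOf S).card_mul_index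
  rw [h.pd.index_K, Nat.card_congr (Subgroup.subgroupOfEquivOfLe h.pd.K_le).toEquiv] at this
  exact this.symm

theorem card_W : Nat.card ↥(W₁ ⊔ W₂) = Nat.card W₁ * Nat.card W₂ := by
  rw [← Nat.card_prod]
  exact Nat.card_congr h.pd.isPair.prodEquiv.symm.toEquiv

theorem odd_W : Odd (Nat.card ↥(W₁ ⊔ W₂)) :=
  h.pd.odd.of_dvd_nat (Subgroup.card_dvd_of_le h.pd.sup_le)

theorem centralizer_le {a : G} (ha : a ∈ sideA S P W₁ W₂) :
    Subgroup.centralizer ({a} : Set G) ≤ S := by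
  have e := h.pd.dade.sup_eq a ha
  rw [bot_sup_eq] at e
  rw [← e]
  exact inf_le_left

theorem orderOf_dvd {a : G} (ha : a ∈ sideA S P W₁ W₂) :
    orderOf a ∣ Nat.card W₁ * Nat.card W₂ ^ Nat.card W₁ := by
  rcases ha with ⟨ha, -⟩ | ⟨x, -, w, hw, -, -, rfl⟩
  · exact (Subgroup.orderOf_dvd_natCard P ha).trans (h.card_P ▸ dvd_mul_left _ _)
  · rw [← MulAut.conj_apply, MulEquiv.orderOf_eq]
    refine (Subgroup.orderOf_dvd_natCard _ hw).trans ?_
    rw [h.card_W]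
    exact Nat.mul_dvd_mul_left _ (dvd_pow_self _ h.q_prime.ne_zero)

theorem mem_support_of_mem {a : G} (ha : a ∈ sideA S P W₁ W₂) :
    a ∈ Dade.support (sideA S P W₁ W₂) (fun _ => ⊥) :=
  ⟨a, ha, 1, Subgroup.one_mem _, 1, by group⟩

/-- The support is disjoint from the support of a hub whose Dade set consists of `pq`-regular elements. -/
theorem disjoint_hub (H : Hub G)
    (hc : ∀ a ∈ H.A, (orderOf a).Coprime (Nat.card W₁ * Nat.card W₂)) :
    ∀ g ∈ H.support, g ∉ Dade.support (sideA S P W₁ W₂) (fun _ => ⊥) := by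
  rintro g ⟨a, ha, u, hu, x, hx⟩ ⟨b, hb, v, hv, y, hy⟩
  rw [Subgroup.mem_bot.1 hv, mul_one] at hy
  obtain ⟨m, hm, -⟩ := Dade.exists_pow_split H.dade ha ha
  have hord : ∀ z : G, orderOf (z * g * z⁻¹) = orderOf g := fun z => by
    rw [← MulAut.conj_apply, MulEquiv.orderOf_eq]
  have h1 : orderOf a ∣ orderOf g := by
    have e := hm u hu
    rw [← hx] at e
    rw [← e, ← hord x]
    exact orderOf_pow_dvd _
  have h2 : orderOf g ∣ Nat.card W₁ * Nat.card W₂ ^ Nat.card W₁ := by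
    rw [← hord y, hy]; exact h.orderOf_dvd hb
  have h3 : (orderOf a).Coprime (Nat.card W₁ * Nat.card W₂ ^ Nat.card W₁) := by
    obtain ⟨c1, c2⟩ := Nat.coprime_mul_iff_right.1 (hc a ha)
    exact Nat.Coprime.mul_right c1 (c2.pow_right _)
  have h4 : a = 1 := orderOf_eq_one_iff.1 (h3.eq_one_of_dvd (h1.trans h2))
  exact H.dade.one_not_mem (h4 ▸ ha)

/-- Every element of order divisible by `p` is in the support. -/
theorem mem_support_of_dvd {g : G} (hg : Nat.card W₂ ∣ orderOf g) :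
    g ∈ Dade.support (sideA S P W₁ W₂) (fun _ => ⊥) := by
  haveI := Fact.mk h.p_prime
  have hg0 : orderOf g ≠ 0 := (orderOf_pos g).ne'
  set x := g ^ (orderOf g / Nat.card W₂) with hx
  have hxo : orderOf x = Nat.card W₂ := orderOf_pow_orderOf_div hg0 hg
  have hPp : IsPGroup (Nat.card W₂) P := IsPGroup.of_card h.card_P
  obtain ⟨Q, hQ⟩ := (IsPGroup.of_card (n := 1) (G := Subgroup.zpowers x)
    (by rw [Nat.card_zpowers, hxo, pow_one])).exists_le_sylow
  obtain ⟨y, hy⟩ := MulAction.exists_smul_eq G Q (hPp.toSylow h.sylow)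
  have hxP : y * x * y⁻¹ ∈ P := by
    have hm : MulAut.conj y x ∈ ((y • Q : Sylow (Nat.card W₂) G) : Subgroup G) := by
      rw [Sylow.coe_subgroup_smul]
      exact Subgroup.smul_mem_pointwise_smul _ _ _ (hQ (Subgroup.mem_zpowers x))
    rw [hy, MulAut.conj_apply] at hm
    exact hm
  set g' := y * g * y⁻¹ with hg'
  have hx1 : y * x * y⁻¹ ≠ 1 := by
    intro e
    rw [conj_eq_one_iff] at e
    rw [e, orderOf_one] at hxo
    exact h.p_prime.one_lt.ne hxo
  have hcomm : g' * (y * x * y⁻¹) = (y * x * y⁻¹) * g' := by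
    have hc : g * x = x * g := (Commute.self_pow g _).eq
    calc g' * (y * x * y⁻¹) = y * (g * x) * y⁻¹ := by rw [hg']; group
      _ = y * (x * g) * y⁻¹ := by rw [hc]
      _ = _ := by rw [hg']; group
  have hS : g' ∈ S := h.centralizer_le (Or.inl ⟨hxP, hx1⟩) (Subgroup.mem_centralizer_singleton_iff.2 hcomm)
  have hord : orderOf g' = orderOf g := by rw [hg', ← MulAut.conj_apply, MulEquiv.orderOf_eq]
  suffices hmem : g' ∈ sideA S P W₁ W₂ by
    obtain ⟨a, ha, v, hv, z, hz⟩ := h.mem_support_of_mem hmem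
    exact ⟨a, ha, v, hv, z * y, by rw [← hz, hg']; group⟩
  by_cases hK : g' ∈ K
  · refine Or.inl ⟨h.fpf g' hK _ hxP hx1 hcomm, fun e => ?_⟩
    rw [Set.mem_singleton_iff.1 e, orderOf_one] at hord
    rw [← hord] at hg
    exact h.p_prime.ne_one (Nat.dvd_one.1 hg)
  · obtain ⟨z, w, hw, e⟩ := h.pd.exists_conj_W (x := ⟨g', hS⟩) hK
    have e' : g' = (z : G) * w * (z : G)⁻¹ := congrArg Subtype.val e
    refine Or.inr ⟨z, z.2, w, w.2, fun hw1 => ?_, hw, e'⟩
    have h1 : orderOf g' = orderOf (w : G) := by rw [e', ← MulAut.conj_apply, MulEquiv.orderOf_eq]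
    have h2 : Nat.card W₂ ∣ Nat.card W₁ := by
      refine hg.trans ?_
      rw [← hord, h1]
      exact Subgroup.orderOf_dvd_natCard _ hw1
    exact h.ne ((Nat.prime_dvd_prime_iff_eq h.p_prime h.q_prime).1 h2).symm

/-- The fraction of the group covered by the support. -/
theorem support_fraction :
    (Nat.card (Dade.support (sideA S P W₁ W₂) (fun _ => ⊥)) : ℝ) / Nat.card G ≤
      ((Nat.card P : ℝ) - 1) / Nat.card S +
        ((Nat.card W₁ : ℝ) - 1) * ((Nat.card W₂ : ℝ) - 1) / (Nat.card W₁ * Nat.card W₂) := by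
  classical
  haveI := Fintype.ofFinite ↥S
  have hs := Dade.sum_support h.pd.dade (K := ℝ)
    (fun g => if g ∈ Dade.support (sideA S P W₁ W₂) (fun _ => ⊥) then (1 : ℝ) else 0)
    (fun g x => by simp only [Dade.mem_support_conj_iff]) (fun g hg => if_neg hg)
  have h1 : ∀ a ∈ Finset.univ.filter (fun a : S => (a : G) ∈ sideA S P W₁ W₂),
      ∀ [F : Fintype (⊥ : Subgroup G)], (Nat.card (⊥ : Subgroup G) : ℝ)⁻¹ * ∑ u : (⊥ : Subgroup G),
        (if (a : G) * u ∈ Dade.support (sideA S P W₁ W₂) (fun _ => ⊥) then (1 : ℝ) else 0) = 1 := by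
    intro a ha F
    have hm := h.mem_support_of_mem (Finset.mem_filter.1 ha).2
    rw [Finset.sum_congr rfl fun u _ => if_pos (by rw [Subgroup.mem_bot.1 u.2, mul_one]; exact hm),
      Finset.sum_const, Finset.card_univ, nsmul_eq_mul, mul_one, ← Nat.card_eq_fintype_card,
      inv_mul_cancel₀ (Nat.cast_ne_zero.2 Nat.card_pos.ne')]
  simp only [sideA] at h1 hs
  replace hs := hs.trans (congrArg (fun t : ℝ => (Nat.card ↥S : ℝ)⁻¹ * t)
    (Finset.sum_congr rfl (g := fun _ => (1 : ℝ)) fun a ha => by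
      convert h1 a (Finset.mem_filter.2 ⟨Finset.mem_univ _, (Finset.mem_filter.1 ha).2⟩) using 4))
  rw [Finset.sum_const, nsmul_eq_mul, mul_one, Finset.sum_boole] at hs
  have hsupp : (Finset.univ.filter fun g => g ∈ Dade.support (sideA S P W₁ W₂) (fun _ => ⊥)).card =
      Nat.card (Dade.support (sideA S P W₁ W₂) (fun _ => ⊥)) := by
    rw [Nat.card_eq_fintype_card, Fintype.card_subtype]
  rw [hsupp] at hs
  rw [div_eq_inv_mul, hs]
  -- the count inside `S`
  set W := W₁ ⊔ W₂ with hW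
  let Vh := {w : ↥W // (w : G) ∉ W₁ ∧ (w : G) ∉ W₂}
  let Pn := {a : ↥S // (a : G) ∈ P ∧ a ≠ 1}
  have hcomm : ∀ s t : ↥W, s * t = t * s := h.pd.comm
  have hle : (Finset.univ.filter (fun a : S => (a : G) ∈ sideA S P W₁ W₂)).card ≤
      Nat.card Pn + Nat.card (↥S ⧸ W.subgroupOf S) * Nat.card Vh := by
    rw [← Nat.card_prod, ← Nat.card_sum, ← Fintype.card_subtype, ← Nat.card_eq_fintype_card]
    let f : Pn ⊕ (↥S ⧸ W.subgroupOf S) × Vh → ↥S :=
      Sum.elim (fun a => a.1) fun c => c.1.out * ⟨c.2.1, h.pd.sup_le c.2.1.2⟩ * c.1.out⁻¹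
    have hf : ∀ a : {a : ↥S // (a : G) ∈ sideA S P W₁ W₂}, ∃ z, f z = a.1 := by
      rintro ⟨a, ⟨ha, ha1⟩ | ⟨x, hx, w, hw, hw1, hw2, e⟩⟩
      · exact ⟨Sum.inl ⟨a, ha, fun e => ha1 (by simp [e])⟩, rfl⟩
      · refine ⟨Sum.inr ((⟨x, hx⟩ : ↥S), ⟨⟨w, hw⟩, hw1, hw2⟩), ?_⟩
        obtain ⟨t, ht⟩ := QuotientGroup.mk_out_eq_mul (W.subgroupOf S) (⟨x, hx⟩ : ↥S)
        apply Subtype.ext
        show ((((⟨x, hx⟩ : ↥S) : ↥S ⧸ W.subgroupOf S).out : ↥S) : G) * w *
          ((((⟨x, hx⟩ : ↥S) : ↥S ⧸ W.subgroupOf S).out : ↥S) : G)⁻¹ = (a : G)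
        rw [ht, e]
        have hc : ((t : ↥S) : G) * w = w * ((t : ↥S) : G) :=
          congrArg Subtype.val (hcomm ⟨_, t.2⟩ ⟨w, hw⟩)
        rw [Subgroup.coe_mul]
        calc x * ((t : ↥S) : G) * w * (x * ((t : ↥S) : G))⁻¹
            = x * (((t : ↥S) : G) * w) * ((t : ↥S) : G)⁻¹ * x⁻¹ := by group
          _ = x * w * x⁻¹ := by rw [hc]; group
    choose z hz using hf
    exact Nat.card_le_card_of_injective z fun a b e => Subtype.ext (by rw [← hz a, ← hz b, e])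
  have hV : Nat.card Vh = (Nat.card W₁ - 1) * (Nat.card W₂ - 1) := by
    have e : Nat.card Vh = Nat.card ({a : W₁ // a ≠ 1} × {b : W₂ // b ≠ 1}) := by
      refine Nat.card_congr ((h.pd.isPair.prodEquiv.symm.toEquiv.subtypeEquiv
        (q := fun ab => ab.1 ≠ 1 ∧ ab.2 ≠ 1) fun w => ?_).trans
          (Equiv.subtypeProdEquivProd (p := fun a : W₁ => a ≠ 1) (q := fun b : W₂ => b ≠ 1)))
      rw [h.pd.isPair.mem₂_iff, h.pd.isPair.mem₁_iff]
      constructor
      · rintro ⟨a, b⟩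
        refine ⟨fun e => b ?_, fun e => a ?_⟩
        · exact Subtype.ext (congrArg (fun t : W₁ => (t : G)) e)
        · exact Subtype.ext (congrArg (fun t : W₂ => (t : G)) e)
      · rintro ⟨a, b⟩
        refine ⟨fun e => b ?_, fun e => a ?_⟩
        · exact Subtype.ext (congrArg (fun t : ↥(W₁ ⊔ W₂) => (t : G)) e)
        · exact Subtype.ext (congrArg (fun t : ↥(W₁ ⊔ W₂) => (t : G)) e)
    rw [e, Nat.card_prod]
    simp only [Nat.card_eq_fintype_card, Fintype.card_subtype_compl, Fintype.card_subtype_eq]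
  have hPn : Nat.card Pn = Nat.card P - 1 := by
    have e : Nat.card Pn = Nat.card {a : P // a ≠ 1} :=
      Nat.card_congr
        { toFun := fun a => ⟨⟨a.1, a.2.1⟩, fun e => a.2.2 (Subtype.ext (congrArg (fun t : P => (t : G)) e))⟩
          invFun := fun a => ⟨⟨a.1, h.P_le_S a.1.2⟩, a.1.2,
            fun e => a.2 (Subtype.ext (congrArg (fun t : ↥S => (t : G)) e))⟩
          left_inv := fun _ => rfl
          right_inv := fun _ => rfl }
    rw [e]
    simp only [Nat.card_eq_fintype_card, Fintype.card_subtype_compl, Fintype.card_subtype_eq]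
  have hidx : Nat.card (↥S ⧸ W.subgroupOf S) * (Nat.card W₁ * Nat.card W₂) = Nat.card S := by
    rw [← h.card_W, ← Nat.card_congr (Subgroup.subgroupOfEquivOfLe h.pd.sup_le).toEquiv,
      ← Subgroup.card_eq_card_quotient_mul_card_subgroup]
  rw [hPn, hV] at hle
  have hle' := (Nat.cast_le (α := ℝ)).2 hle
  push_cast [Nat.cast_sub (Nat.one_le_iff_ne_zero.2 Nat.card_pos.ne')] at hle'
  have hidx' : (Nat.card (↥S ⧸ W.subgroupOf S) : ℝ) * ((Nat.card W₁ : ℝ) * Nat.card W₂) = Nat.card S := by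
    exact_mod_cast hidx
  have hS0 : (0 : ℝ) < Nat.card S := by exact_mod_cast Nat.card_pos
  have h10 : (0 : ℝ) < Nat.card W₁ := by exact_mod_cast Nat.card_pos
  have h20 : (0 : ℝ) < Nat.card W₂ := by exact_mod_cast Nat.card_pos
  refine le_trans (mul_le_mul_of_nonneg_left hle' (inv_nonneg.2 hS0.le)) (le_of_eq ?_)
  rw [← hidx']
  have : (0 : ℝ) < Nat.card (↥S ⧸ W.subgroupOf S) := by exact_mod_cast Nat.card_pos
  field_simp

section Chars

variable [Fintype ↥S]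

/-- The character induced from the principal character of `P W₁`. -/
noncomputable def psiS (_ : Side S K P W₁ W₂) : ↥S → ℂ :=
  indFun ((P ⊔ W₁).subgroupOf S) (fun _ => 1)

theorem psi_gc : IsGeneralizedCharacter ↥S h.psiS := by
  classical
  exact isGC_of_isCharacter (IsCharacter.indFun _ (IsIrrCharacter.isCharacter irr_one))

theorem psi_real : conjFun h.psiS = h.psiS := by
  rw [psiS, conjFun_indFun]
  congr 1
  funext k
  exact map_one _

theorem mem_PW {x : G} (hx : x ∈ P ⊔ W₁) (hK : x ∈ K) : x ∈ P := by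
  have hN : W₁ ≤ Subgroup.normalizer (P : Set G) := fun w hw => Subgroup.mem_normalizer_iff.2 fun y =>
    ⟨fun hy => h.pd.H_conj w (h.pd.W₁_le hw) y hy, fun hy => by
      have := h.pd.H_conj w⁻¹ (S.inv_mem (h.pd.W₁_le hw)) _ hy
      simpa [mul_assoc] using this⟩
  rw [← SetLike.mem_coe, Subgroup.coe_mul_of_right_le_normalizer_left P W₁ hN] at hx
  obtain ⟨a, ha, w, hw, rfl⟩ := hx
  have : w ∈ K ⊓ W₁ := ⟨by simpa using K.mul_mem (K.inv_mem (h.pd.H_le ha)) hK, hw⟩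
  rw [h.pd.inf_eq_bot, Subgroup.mem_bot] at this
  simpa [this] using ha

theorem card_PW : Nat.card ↥((P ⊔ W₁).subgroupOf S) = Nat.card P * Nat.card W₁ := by
  have hle : P ⊔ W₁ ≤ S := _root_.sup_le h.P_le_S h.pd.W₁_le
  rw [Nat.card_congr (Subgroup.subgroupOfEquivOfLe hle).toEquiv, ← Nat.card_prod]
  have hN : W₁ ≤ Subgroup.normalizer (P : Set G) := fun w hw => Subgroup.mem_normalizer_iff.2 fun y =>
    ⟨fun hy => h.pd.H_conj w (h.pd.W₁_le hw) y hy, fun hy => by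
      have := h.pd.H_conj w⁻¹ (S.inv_mem (h.pd.W₁_le hw)) _ hy
      simpa [mul_assoc] using this⟩
  refine (Nat.card_congr (Equiv.ofBijective (fun c : P × W₁ => (⟨(c.1 : G) * c.2,
    Subgroup.mul_mem_sup c.1.2 c.2.2⟩ : ↥(P ⊔ W₁))) ⟨?_, ?_⟩)).symm
  · rintro ⟨a, w⟩ ⟨a', w'⟩ e
    have e' : (a : G) * w = a' * w' := congrArg Subtype.val e
    have hmem : (w : G) * (w' : G)⁻¹ ∈ K ⊓ W₁ := by
      refine ⟨h.pd.H_le ?_, W₁.mul_mem w.2 (W₁.inv_mem w'.2)⟩
      rw [show (w : G) * (w' : G)⁻¹ = (a : G)⁻¹ * a' by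
        calc (w : G) * (w' : G)⁻¹ = (a : G)⁻¹ * ((a : G) * w) * (w' : G)⁻¹ := by group
          _ = _ := by rw [e']; group]
      exact P.mul_mem (P.inv_mem a.2) a'.2
    rw [h.pd.inf_eq_bot, Subgroup.mem_bot, mul_inv_eq_one] at hmem
    rw [hmem, mul_left_inj] at e'
    exact Prod.ext (Subtype.ext e') (Subtype.ext hmem)
  · rintro ⟨x, hx⟩
    rw [← SetLike.mem_coe, Subgroup.coe_mul_of_right_le_normalizer_left P W₁ hN] at hx
    obtain ⟨a, ha, w, hw, rfl⟩ := hx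
    exact ⟨(⟨a, ha⟩, ⟨w, hw⟩), rfl⟩

theorem psi_apply_P {x : ↥S} (hx : (x : G) ∈ P) : h.psiS x = (P.relIndex K : ℂ) := by
  rw [psiS, indFun, Finset.sum_congr rfl fun y _ => extendByZero_mem _ _ (g := y⁻¹ * x * y)
    (Subgroup.mem_subgroupOf.2 (Subgroup.mem_sup_left (by
      simpa using h.pd.H_conj _ (S.inv_mem y.2) _ hx))), Finset.sum_const, Finset.card_univ,
    nsmul_eq_mul, mul_one, ← Nat.card_eq_fintype_card, h.card_PW, h.card_S, h.card_K]
  have h1 : (Nat.card P : ℂ) ≠ 0 := Nat.cast_ne_zero.2 Nat.card_pos.ne'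
  have h2 : (Nat.card W₁ : ℂ) ≠ 0 := Nat.cast_ne_zero.2 Nat.card_pos.ne'
  push_cast
  field_simp

theorem psi_apply_K {x : ↥S} (hK : (x : G) ∈ K) (hP : (x : G) ∉ P) : h.psiS x = 0 := by
  rw [psiS, indFun, Finset.sum_eq_zero fun y _ => ?_, mul_zero]
  refine extendByZero_not_mem _ _ fun hm => hP ?_
  rw [Subgroup.mem_subgroupOf] at hm
  have hcK : (y : G)⁻¹ * x * y ∈ K := by
    haveI := h.pd.normal
    simpa [Subgroup.mem_subgroupOf] using (h.pd.normal.conj_mem x hK y⁻¹)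
  have := h.pd.H_conj _ y.2 _ (h.mem_PW (by simpa using hm) hcK)
  simpa [mul_assoc] using this

theorem fixed_coset {w k : G} (hw : w ∈ W₁) (hw1 : w ≠ 1) (hk : k ∈ K)
    (hkw : k⁻¹ * (w * k * w⁻¹) ∈ P) : k ∈ P := by
  classical
  haveI := Fact.mk h.q_prime
  let C : Set G := {x | k⁻¹ * x ∈ P}
  have hWS : ∀ z : Subgroup.zpowers w, (z : G) ∈ S := fun z =>
    h.pd.W₁_le ((Subgroup.zpowers_le.2 hw) z.2)
  have hfix : ∀ z ∈ Subgroup.zpowers w, k⁻¹ * (z * k * z⁻¹) ∈ P := by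
    intro z hz
    rw [Subgroup.zpowers_eq_closure] at hz
    induction hz using Subgroup.closure_induction'' with
    | mem x hx => rcases hx with rfl; exact hkw
    | inv_mem x hx =>
      rcases hx with rfl
      have := h.pd.H_conj x⁻¹ (S.inv_mem (h.pd.W₁_le hw)) _ (P.inv_mem hkw)
      simpa [mul_assoc] using this
    | one => simp
    | mul x y hx hy ihx ihy =>
      have hxS : x ∈ S := by
        rw [← Subgroup.zpowers_eq_closure] at hx
        exact hWS ⟨x, hx⟩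
      have := P.mul_mem ihx (h.pd.H_conj x hxS _ ihy)
      simpa [mul_assoc] using this
  letI : MulAction (Subgroup.zpowers w) C :=
    { smul := fun z x => ⟨(z : G) * x * (z : G)⁻¹, by
        have := P.mul_mem (hfix z z.2) (h.pd.H_conj z (hWS z) _ x.2)
        show k⁻¹ * ((z : G) * x * (z : G)⁻¹) ∈ P
        simpa [mul_assoc] using this⟩
      one_smul := fun x => Subtype.ext (show (1 : G) * x * (1 : G)⁻¹ = x by group)
      mul_smul := fun a b x => Subtype.ext (show ((a : G) * b) * x * ((a : G) * b)⁻¹ =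
        (a : G) * ((b : G) * x * (b : G)⁻¹) * (a : G)⁻¹ by group) }
  have hcard : Nat.card C = Nat.card P := by
    refine Nat.card_congr
      { toFun := fun x => ⟨k⁻¹ * x, x.2⟩
        invFun := fun a => ⟨k * a, by show k⁻¹ * (k * (a : G)) ∈ P; simp⟩
        left_inv := fun x => Subtype.ext (by simp)
        right_inv := fun a => Subtype.ext (by simp) }
  have hpg : IsPGroup (Nat.card W₁) (Subgroup.zpowers w) := by
    have hd := Subgroup.orderOf_dvd_natCard W₁ hw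
    rcases (Nat.dvd_prime h.q_prime).1 hd with e | e
    · exact absurd (orderOf_eq_one_iff.1 e) hw1
    · exact IsPGroup.of_card (n := 1) (by rw [Nat.card_zpowers, e, pow_one])
  obtain ⟨⟨x, hx⟩, hxf⟩ := hpg.nonempty_fixed_point_of_prime_not_dvd_card C (by
    rw [hcard, h.card_P]
    exact fun hd => h.ne ((Nat.prime_dvd_prime_iff_eq h.q_prime h.p_prime).1 (h.q_prime.dvd_of_dvd_pow hd)))
  have hxK : x ∈ K := by simpa using K.mul_mem hk (h.pd.H_le hx)
  have hcm : w * x * w⁻¹ = x := congrArg Subtype.val (hxf ⟨w, Subgroup.mem_zpowers w⟩)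
  have hwW : w ∉ W₂ := fun e => by
    have : w ∈ K ⊓ W₁ := ⟨h.pd.W₂_le e, hw⟩
    rw [h.pd.inf_eq_bot, Subgroup.mem_bot] at this
    exact hw1 this
  have h2 : x ∈ W₂ := by
    have hc := h.pd.setup.cent ⟨w, h.pd.W₁_le hw⟩ hw (fun e => hw1 (congrArg Subtype.val e))
    have hm : (⟨x, h.pd.K_le hxK⟩ : ↥S) ∈ K.subgroupOf S ⊓ Subgroup.centralizer
        ({⟨w, h.pd.W₁_le hw⟩} : Set ↥S) :=
      ⟨hxK, Subgroup.mem_centralizer_singleton_iff.2 (Subtype.ext (mul_inv_eq_iff_eq_mul.1 hcm).symm)⟩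
    rw [hc] at hm
    exact hm
  have hxP := h.pd.W₂_le_H h2
  simpa using P.mul_mem hxP (P.inv_mem hx)

theorem psi_apply_off {x : ↥S} (hx : (x : G) ∉ K) : h.psiS x = 1 := by
  classical
  obtain ⟨g, w, hw, rfl⟩ := h.pd.exists_conj_W hx
  have hcl : IsClassFunction ↥S h.psiS := isGC_isClassFunction h.psi_gc
  rw [hcl]
  set Hs := (P ⊔ W₁).subgroupOf S with hHs
  have hwH : ((h.pd.emb w : ↥S) : G) ∈ P ⊔ W₁ := by
    obtain ⟨a, ha, b, hb, e⟩ := h.pd.isPair.exists_mul w.2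
    rw [PrimeTI.coe_emb, ← e]
    exact (P ⊔ W₁).mul_mem (Subgroup.mem_sup_right ha) (Subgroup.mem_sup_left (h.pd.W₂_le_H hb))
  have key : ∀ y : ↥S, y⁻¹ * h.pd.emb w * y ∈ Hs → y ∈ Hs := by
    intro y hy
    rw [hHs, Subgroup.mem_subgroupOf] at hy ⊢
    haveI := h.pd.normal
    have hyS : y ∈ K.subgroupOf S ⊔ W₁.subgroupOf S := by rw [h.pd.setup.sup]; trivial
    rw [← SetLike.mem_coe, Subgroup.normal_mul] at hyS
    obtain ⟨k, hk, r, hr, rfl⟩ := hyS
    simp only [Subgroup.coe_mul, Subgroup.coe_inv, SetLike.mem_coe, Subgroup.mem_subgroupOf] at hy hk hr ⊢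
    have hrH : (r : G) ∈ P ⊔ W₁ := Subgroup.mem_sup_right hr
    have h1 : (k : G)⁻¹ * (h.pd.emb w : ↥S) * k ∈ P ⊔ W₁ := by
      have := (P ⊔ W₁).mul_mem ((P ⊔ W₁).mul_mem hrH hy) ((P ⊔ W₁).inv_mem hrH)
      simpa [mul_assoc] using this
    obtain ⟨a, ha, b, hb, e⟩ := h.pd.isPair.exists_mul w.2
    rw [PrimeTI.coe_emb, ← e] at h1
    have ha1 : a ≠ 1 := fun e' => hw (by rw [← e, e', one_mul]; exact hb)
    have h2 : (k : G)⁻¹ * a * k ∈ P ⊔ W₁ := by
      have hb' : (k : G)⁻¹ * b⁻¹ * k ∈ P := by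
        simpa using h.pd.H_conj _ (S.inv_mem k.2) _ (P.inv_mem (h.pd.W₂_le_H hb))
      have := (P ⊔ W₁).mul_mem h1 (Subgroup.mem_sup_left (T := W₁) hb')
      simpa [mul_assoc] using this
    have h3 : (k : G)⁻¹ * (a * k * a⁻¹) ∈ P := by
      refine h.mem_PW ?_ (K.mul_mem (K.inv_mem hk) ?_)
      · have := (P ⊔ W₁).mul_mem h2 ((P ⊔ W₁).inv_mem (Subgroup.mem_sup_right (S := P) ha))
        simpa [mul_assoc] using this
      · simpa [Subgroup.mem_subgroupOf] using h.pd.normal.conj_mem k hk ⟨a, h.pd.W₁_le ha⟩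
    exact (P ⊔ W₁).mul_mem (Subgroup.mem_sup_left (h.fixed_coset ha ha1 hk h3)) hrH
  have hterm : ∀ y : ↥S, extendByZero Hs (fun _ => (1 : ℂ)) (y⁻¹ * h.pd.emb w * y) =
      if y ∈ Hs then 1 else 0 := fun y => by
    rw [extendByZero_eq]
    by_cases hy : y ∈ Hs
    · rw [dif_pos (Hs.mul_mem (Hs.mul_mem (Hs.inv_mem hy) hwH) hy), if_pos hy]
    · rw [dif_neg fun hm => hy (key y hm), if_neg hy]
  rw [psiS, indFun, Finset.sum_congr rfl fun y _ => hterm y, Finset.sum_boole, ← Fintype.card_subtype,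
    ← Nat.card_eq_fintype_card, inv_mul_cancel₀ (Nat.cast_ne_zero.2 Nat.card_pos.ne')]

open Classical in
/-- Inner products with `psiS`. -/
theorem psi_inner (f : ↥S → ℂ) :
    (Nat.card ↥S : ℂ) * classInner h.psiS f =
      (P.relIndex K : ℂ) * ∑ x ∈ Finset.univ.filter (fun x : ↥S => (x : G) ∈ P), conj (f x) +
        (∑ x : ↥S, conj (f x) - ∑ x ∈ Finset.univ.filter (fun x : ↥S => (x : G) ∈ K), conj (f x)) := by
  classical
  rw [classInner, ← mul_assoc, mul_inv_cancel₀ (Nat.cast_ne_zero.2 Nat.card_pos.ne'), one_mul,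
    Finset.sum_filter, Finset.sum_filter, Finset.mul_sum, ← Finset.sum_sub_distrib, ← Finset.sum_add_distrib]
  refine Finset.sum_congr rfl fun x _ => ?_
  by_cases hK : (x : G) ∈ K
  · by_cases hP : (x : G) ∈ P
    · rw [h.psi_apply_P hP, if_pos hP, if_pos hK]; ring
    · rw [h.psi_apply_K hK hP, if_neg hP, if_pos hK]; ring
  · have hP : (x : G) ∉ P := fun e => hK (h.pd.H_le e)
    rw [h.psi_apply_off hK, if_neg hP, if_neg hK]; ring

theorem psi_triv : classInner h.psiS (fun _ => 1) = 1 := by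
  classical
  have e := h.psi_inner (fun _ => 1)
  simp only [map_one, Finset.sum_const, nsmul_eq_mul, mul_one, Finset.card_univ] at e
  rw [← Fintype.card_subtype, ← Fintype.card_subtype, ← Nat.card_eq_fintype_card,
    ← Nat.card_eq_fintype_card, ← Nat.card_eq_fintype_card,
    show Nat.card {x : ↥S // (x : G) ∈ P} = Nat.card P from
      Nat.card_congr (Subgroup.subgroupOfEquivOfLe h.P_le_S).toEquiv,
    show Nat.card {x : ↥S // (x : G) ∈ K} = Nat.card K from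
      Nat.card_congr (Subgroup.subgroupOfEquivOfLe h.pd.K_le).toEquiv, h.card_K] at e
  push_cast at e
  exact mul_left_cancel₀ (Nat.cast_ne_zero.2 (Nat.card_pos (α := ↥S)).ne') (by linear_combination e)

theorem psi_norm : (Nat.card W₁ : ℂ) * classInner h.psiS h.psiS =
    (P.relIndex K : ℂ) + (Nat.card W₁ : ℂ) - 1 := by
  classical
  have e := h.psi_inner h.psiS
  rw [Finset.sum_congr rfl (fun x hx => congrArg conj (h.psi_apply_P (Finset.mem_filter.1 hx).2)),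
    ← Finset.sum_filter_add_sum_filter_not Finset.univ (fun x : ↥S => (x : G) ∈ K) (fun x => conj (h.psiS x)),
    add_sub_cancel_left,
    Finset.sum_congr rfl (fun x hx => congrArg conj (h.psi_apply_off (Finset.mem_filter.1 hx).2))] at e
  simp only [map_natCast, map_one, Finset.sum_const, nsmul_eq_mul, mul_one] at e
  rw [← Fintype.card_subtype, ← Fintype.card_subtype, Fintype.card_subtype_compl,
    Nat.cast_sub (Fintype.card_subtype_le _), ← Nat.card_eq_fintype_card, ← Nat.card_eq_fintype_card,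
    ← Nat.card_eq_fintype_card,
    show Nat.card {x : ↥S // (x : G) ∈ P} = Nat.card P from
      Nat.card_congr (Subgroup.subgroupOfEquivOfLe h.P_le_S).toEquiv,
    show Nat.card {x : ↥S // (x : G) ∈ K} = Nat.card K from
      Nat.card_congr (Subgroup.subgroupOfEquivOfLe h.pd.K_le).toEquiv, h.card_S, h.card_K] at e
  push_cast at e
  have h1 : (Nat.card P : ℂ) * (P.relIndex K : ℂ) ≠ 0 := by
    have := (Nat.card_pos (α := K)).ne'
    rw [h.card_K] at this
    exact_mod_cast this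
  exact mul_left_cancel₀ h1 (by linear_combination e)

section Mu

variable {μ : (↥(W₁ ⊔ W₂) →* ℂˣ) → ↥S → ℂ} {δ : (↥(W₁ ⊔ W₂) →* ℂˣ) → ℂ}
  (hμ : MuFamily h.pd.toPrimeTI μ δ) {ω : ↥(W₁ ⊔ W₂) →* ℂˣ} (hω : RowIdx ω)
include hμ hω

omit [Fintype ↥S] hμ in
theorem not_col : ¬ SameCol ω 1 := fun e => hω.1 (h.pd.isPair.lin_ext (fun w hw => hω.2 w hw) e)

theorem mu_degree : μ ω 1 = (P.relIndex K : ℂ) ∧ δ ω = 1 := by
  classical
  haveI := h.pd.normal
  haveI := Fintype.ofFinite ↥(K.subgroupOf S)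
  haveI : (P.subgroupOf S).Normal := ⟨fun n hn g => h.pd.H_conj g g.2 _ hn⟩
  set N : Subgroup ↥(K.subgroupOf S) := (P.subgroupOf S).subgroupOf (K.subgroupOf S) with hN
  haveI : N.Normal := inferInstance
  have hker := h.pd.not_hasInKer hμ (h.not_col hω)
  obtain ⟨φ, hφ, he⟩ := S1528.result N (fun n hn hn1 k hk => by
      have e := Subgroup.mem_centralizer_singleton_iff.1 hk
      exact h.fpf _ k.2 _ hn (fun e' => hn1 (Subtype.ext (Subtype.ext e')))
        (congrArg (fun t : ↥(K.subgroupOf S) => ((t : ↥S) : G)) e))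
    (resK S K (μ ω)) (hμ.resK_facts ω).1 (by
      simp only [HasInKer, not_forall] at hker
      obtain ⟨k, hk, hne⟩ := hker
      exact ⟨k, hk, hne⟩)
  have hφ1 : φ 1 = 1 := apply_one_eq_one_of_comm (G := N) (fun a b => by
    apply Subtype.ext; apply Subtype.ext; apply Subtype.ext
    exact h.P_comm _ a.2 _ b.2) ⟨φ, hφ⟩
  have hdeg : μ ω 1 = (N.index : ℂ) := by
    have e := congrFun he 1
    rw [indFun_one_apply, hφ1, mul_one] at e
    exact e
  have hidx : N.index = P.relIndex K := Subgroup.relIndex_subgroupOf h.pd.K_le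
  rw [hidx] at hdeg
  refine ⟨hdeg, (hμ.sign ω).resolve_right fun e => ?_⟩
  obtain ⟨n, hn⟩ := hμ.congr ω
  rw [hdeg, e] at hn
  have h2 : ((P.relIndex K : ℤ) + 1) = n * (Nat.card W₁ : ℤ) := by
    have : (((P.relIndex K : ℤ) + 1 : ℤ) : ℂ) = ((n * (Nat.card W₁ : ℤ) : ℤ) : ℂ) := by
      push_cast; linear_combination hn
    exact_mod_cast this
  have h3 : ((Nat.card W₁ : ℕ) : ℤ) ∣ 2 := by
    have hu := Nat.div_add_mod (P.relIndex K) (Nat.card W₁)
    rw [h.u_mod] at hu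
    refine ⟨n - (P.relIndex K / Nat.card W₁ : ℕ), ?_⟩
    have hu' : ((Nat.card W₁ : ℤ) * ((P.relIndex K / Nat.card W₁ : ℕ) : ℤ) + 1) = (P.relIndex K : ℤ) := by
      exact_mod_cast hu
    linear_combination h2 + hu'
  have h4 := h.pd.three_le₁
  have := Int.le_of_dvd (by norm_num) h3
  omega

theorem psi_mu : classInner h.psiS (μ ω) = 0 := by
  classical
  haveI := h.pd.normal
  haveI := Fintype.ofFinite ↥(K.subgroupOf S)
  have hker := h.pd.not_hasInKer hμ (h.not_col hω)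
  have hres : classInner (resK S K (μ ω)) (fun _ => 1) = 0 :=
    classInner_irr_of_ne (hμ.resK_facts ω).1 irr_one fun e => hker fun k _ => by rw [e]
  have hne : μ ω ≠ fun _ => 1 := fun e => hker fun k _ => by simp [resK, e]
  have hK : ∑ x ∈ Finset.univ.filter (fun x : ↥S => (x : G) ∈ K), conj (μ ω x) = 0 := by
    rw [classInner, mul_eq_zero] at hres
    have := hres.resolve_left (inv_ne_zero (Nat.cast_ne_zero.2 Nat.card_pos.ne'))
    simp only [map_one, mul_one] at this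
    simp only [resK] at this
    rw [← Finset.sum_subtype (Finset.univ.filter fun x : ↥S => (x : G) ∈ K)
      (p := fun x => x ∈ K.subgroupOf S) (fun x => by simp [Subgroup.mem_subgroupOf]) (fun x => μ ω x)] at this
    rw [← map_sum, this, map_zero]
  have hS : ∑ x : ↥S, conj (μ ω x) = 0 := by
    have := classInner_irr_of_ne (hμ.irr ω) irr_one hne
    rw [classInner, mul_eq_zero] at this
    have := this.resolve_left (inv_ne_zero (Nat.cast_ne_zero.2 Nat.card_pos.ne'))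
    simp only [map_one, mul_one] at this
    rw [← map_sum, this, map_zero]
  have hP : ∑ x ∈ Finset.univ.filter (fun x : ↥S => (x : G) ∈ P), conj (μ ω x) = 0 := by
    rw [← hK]
    refine Finset.sum_subset (fun x hx => ?_) fun x hx hx' => ?_
    · simp only [Finset.mem_filter] at hx ⊢
      exact ⟨hx.1, h.pd.H_le hx.2⟩
    · simp only [Finset.mem_filter, Finset.mem_univ, true_and] at hx hx'
      rw [h.pd.mu_eq_zero hμ (h.not_col hω) hx (fun e => hx' (by simp [e])) fun e => hx' e.1, map_zero]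
  have e := h.psi_inner (μ ω)
  rw [hP, hS, hK, mul_zero, sub_zero, add_zero, mul_eq_zero] at e
  exact e.resolve_left (Nat.cast_ne_zero.2 Nat.card_pos.ne')

theorem beta_supp (x : ↥S) (hx : (x : G) ∉ sideA S P W₁ W₂) : (h.psiS - μ ω) x = 0 := by
  obtain ⟨hd, hδ⟩ := h.mu_degree hμ hω
  by_cases h1 : x = 1
  · rw [h1, Pi.sub_apply, h.psi_apply_P (by simp), hd, sub_self]
  by_cases hK : (x : G) ∈ K
  · have hP : (x : G) ∉ P := fun e => hx (Or.inl ⟨e, fun e' => h1 (Subtype.ext e')⟩)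
    rw [Pi.sub_apply, h.psi_apply_K hK hP, h.pd.mu_eq_zero hμ (h.not_col hω) hK h1 (fun e => hP e.1),
      sub_self]
  · rw [Pi.sub_apply, h.psi_apply_off hK]
    obtain ⟨g, w, hw, rfl⟩ := h.pd.exists_conj_W hK
    have hw1 : (w : G) ∈ W₁ := by
      by_contra hw1
      exact hx (Or.inr ⟨g, g.2, w, w.2, hw1, hw, rfl⟩)
    rw [IsIrrCharacter.isClassFunction (hμ.irr ω), hμ.apply_W ω w hw, hδ, hω.2 w hw1]
    simp

end Mu

/-- `τ (ψ - μ ω) = 1 - η ω + Γ`. -/
theorem exists_gamma {μ : (↥(W₁ ⊔ W₂) →* ℂˣ) → ↥S → ℂ} {δ : (↥(W₁ ⊔ W₂) →* ℂˣ) → ℂ}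
    (hμ : MuFamily h.pd.toPrimeTI μ δ) {η : (↥(W₁ ⊔ W₂) →* ℂˣ) → G → ℂ}
    (hη : IsCyclicTIFamily W₁ W₂ η) :
    ∃ (Γ : G → ℂ) (g : ℤ), IsGeneralizedCharacter G Γ ∧ conjFun Γ = Γ ∧
      classInner Γ (fun _ => 1) = 0 ∧
      (∀ ω, RowIdx ω → dadeIsometry (sideA S P W₁ W₂) S (fun _ => ⊥) (h.psiS - μ ω) =
        (fun _ => 1) - η ω + Γ) ∧
      (∀ ω, RowIdx ω → classInner Γ (η ω) = g) ∧
      classInner Γ Γ = ((((P.relIndex K / Nat.card W₁ : ℕ) : ℤ) + 2 * g : ℤ) : ℂ) := by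
  classical
  let τ := dadeIsometry (sideA S P W₁ W₂) S (fun _ => (⊥ : Subgroup G))
  obtain ⟨ω₀, hω₀⟩ : ∃ ω : ↥(W₁ ⊔ W₂) →* ℂˣ, RowIdx ω := by
    obtain ⟨ω, hω⟩ := h.pd.exists_not_sameCol_one
    refine ⟨h.pd.isPair.lsnd ω, fun e => hω fun w hw => ?_, fun w hw => h.pd.isPair.lsnd_apply_of_mem₁ ω hw⟩
    rw [← h.pd.isPair.lsnd_apply_of_mem₂ ω hw, e]
  have hcf : ∀ ω, IsClassFunction ↥S (h.psiS - μ ω) := fun ω =>
    isGC_isClassFunction (isGC_sub h.psi_gc (isGC_of_irr (hμ.irr ω)))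
  set Γ := τ (h.psiS - μ ω₀) - (fun _ => 1) + η ω₀ with hΓ
  have hTeq : ∀ ω, RowIdx ω → τ (h.psiS - μ ω) = (fun _ => 1) - η ω + Γ := by
    intro ω hω
    have e : τ (μ ω₀ - μ ω) = η ω₀ - η ω := by
      rw [show τ (μ ω₀ - μ ω) = _ from h.pd.tau_mu_sub hμ hη (fun w hw => by rw [hω₀.2 w hw, hω.2 w hw])
        (h.not_col hω₀) (h.not_col hω) (by rw [(h.mu_degree hμ hω₀).1, (h.mu_degree hμ hω).1]),
        (h.mu_degree hμ hω₀).2, one_smul]
    have e2 : τ (h.psiS - μ ω) = τ (h.psiS - μ ω₀) + τ (μ ω₀ - μ ω) := by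
      rw [← dadeIsometry_add]
      congr 1
      abel
    rw [e2, e, hΓ]
    abel
  have hinv : ∀ {ω : ↥(W₁ ⊔ W₂) →* ℂˣ}, RowIdx ω → RowIdx ω⁻¹ := fun hω =>
    ⟨fun e => hω.1 (MonoidHom.ext fun x => inv_eq_one.1 (DFunLike.congr_fun e x)),
      fun w hw => by rw [MonoidHom.inv_apply, hω.2 w hw, inv_one]⟩
  have hne1 : ∀ {ω : ↥(W₁ ⊔ W₂) →* ℂˣ}, RowIdx ω → ω ≠ 1 := fun hω => hω.1
  have hTgc : IsGeneralizedCharacter G (τ (h.psiS - μ ω₀)) :=
    Dade.dadeIsometry_isGeneralized h.pd.dade (isGC_sub h.psi_gc (isGC_of_irr (hμ.irr ω₀)))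
      (h.beta_supp hμ hω₀)
  have hΓgc : IsGeneralizedCharacter G Γ := isGC_add (isGC_sub hTgc isGC_one) (eta_gc hη ω₀)
  have hT1 : ∀ ω, RowIdx ω → classInner (τ (h.psiS - μ ω)) (fun _ => 1) = 1 := fun ω hω => by
    rw [inner_dade_one h.pd.dade (hcf ω) (h.beta_supp hμ hω), classInner_sub_left, h.psi_triv, sub_eq_self]
    exact classInner_irr_of_ne (hμ.irr ω) irr_one fun e =>
      h.pd.not_hasInKer hμ (h.not_col hω) fun k _ => by simp [resK, e]
  have hΓ1 : classInner Γ (fun _ => 1) = 0 := by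
    rw [hΓ, classInner_add_left, classInner_sub_left, hT1 ω₀ hω₀, inner_one_one, eta_triv hη hω₀.1]
    ring
  obtain ⟨g, hg⟩ := classInner_gc_int hΓgc (eta_gc hη ω₀)
  have hTT : ∀ ω, RowIdx ω →
      classInner (τ (h.psiS - μ ω)) (τ (h.psiS - μ ω)) = classInner h.psiS h.psiS + 1 := fun ω hω => by
    rw [dadeIsometry_inner h.pd.dade (hcf ω) (h.beta_supp hμ hω) (hcf ω) (h.beta_supp hμ hω)]
    simp only [classInner_sub_left, classInner_sub_right, classInner_irr_self (hμ.irr ω), h.psi_mu hμ hω,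
      classInner_symm_zero (h.psi_mu hμ hω)]
    ring
  have hnorm : ∀ ω, RowIdx ω → ∀ c : ℤ, classInner Γ (η ω) = c →
      classInner Γ Γ = classInner h.psiS h.psiS - 1 + 2 * (c : ℂ) := fun ω hω c hc => by
    have e := hTT ω hω
    rw [hTeq ω hω] at e
    simp only [classInner_add_left, classInner_sub_left, classInner_add_right, classInner_sub_right,
      inner_one_one, eta_self hη, eta_triv hη hω.1, classInner_symm_zero (eta_triv hη hω.1), hΓ1,
      classInner_symm_zero hΓ1, hc, classInner_symm_of_int hc] at e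
    linear_combination e
  refine ⟨Γ, g, hΓgc, ?_, hΓ1, hTeq, fun ω hω => ?_, ?_⟩
  · have e := hTeq _ (hinv hω₀)
    rw [(hμ.mu_inv ω₀).1, eta_inv h.pd.ti h.odd_W hη] at e
    have e2 : conjFun (τ (h.psiS - μ ω₀)) = τ (h.psiS - conjFun (μ ω₀)) := by
      rw [← dadeIsometry_conj, conjFun_sub', h.psi_real]
    conv_lhs => rw [hΓ]
    rw [conjFun_add', conjFun_sub', conjFun_one', e2, e]
    abel
  · obtain ⟨c, hc⟩ := classInner_gc_int hΓgc (eta_gc hη ω)
    have e := (hnorm ω hω c hc).symm.trans (hnorm ω₀ hω₀ g hg)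
    rw [hc]
    linear_combination e / 2
  · rw [hnorm ω₀ hω₀ g hg]
    have hu : (Nat.card W₁ : ℂ) * ((P.relIndex K / Nat.card W₁ : ℕ) : ℂ) + 1 = (P.relIndex K : ℂ) := by
      have := Nat.div_add_mod (P.relIndex K) (Nat.card W₁)
      rw [h.u_mod] at this
      exact_mod_cast this
    generalize P.relIndex K / Nat.card W₁ = m at hu ⊢
    push_cast
    refine mul_left_cancel₀ (Nat.cast_ne_zero.2 (Nat.card_pos (α := W₁)).ne') ?_
    linear_combination h.psi_norm - hu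

/-- The relation of a side with a hub. -/
theorem hub_relation (hoddG : Odd (Nat.card G)) {η : (↥(W₁ ⊔ W₂) →* ℂˣ) → G → ℂ}
    (hη : IsCyclicTIFamily W₁ W₂ η) (H : Hub G)
    (hd : ∀ g ∈ H.support, g ∉ Dade.support (sideA S P W₁ W₂) (fun _ => ⊥))
    (a : (↥(W₁ ⊔ W₂) →* ℂˣ) → ℤ) (ha : ∀ π, classInner H.Δ (η π) = (a π : ℂ)) :
    ∃ c : ℤ, (∀ ω, RowIdx ω → Odd (a ω + c)) ∧
      (Odd c → Nat.card W₁ * H.N ≤ P.relIndex K - 1) := by
  classical
  obtain ⟨μ, δ, hμ⟩ := exists_muFamily h.pd.toPrimeTI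
  obtain ⟨Γ, g, hΓ, hΓr, hΓ1, hT, hg, hn⟩ := h.exists_gamma hμ hη
  obtain ⟨c, hc⟩ := classInner_gc_int hΓ (H.Φ_gc H.mem₀)
  have hV : ∀ w : ↥(W₁ ⊔ W₂), (w : G) ∉ W₁ → (w : G) ∉ W₂ → (w : G) ∉ H.support :=
    fun w h1 h2 hw => hd _ hw (h.mem_support_of_mem (h.pd.mem_a0Set h1 h2))
  have hz : ∀ {ω}, RowIdx ω → ∀ α : ↥H.X → ℂ,
      classInner (dadeIsometry (sideA S P W₁ W₂) S (fun _ => ⊥) (h.psiS - μ ω))
        (dadeIsometry H.A H.X H.R α) = 0 := fun _ α =>
    inner_eq_zero_of_disjoint fun x hx => Dade.dadeIsometry_eq_zero H.dade fun hxH =>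
      hx (Dade.dadeIsometry_eq_zero h.pd.dade (hd x hxH))
  obtain ⟨ω₀, hω₀⟩ : ∃ ω : ↥(W₁ ⊔ W₂) →* ℂˣ, RowIdx ω := by
    obtain ⟨ω, hω⟩ := h.pd.exists_not_sameCol_one
    refine ⟨h.pd.isPair.lsnd ω, fun e => hω fun w hw => ?_, fun w hw => h.pd.isPair.lsnd_apply_of_mem₁ ω hw⟩
    rw [← h.pd.isPair.lsnd_apply_of_mem₂ ω hw, e]
  have hΦη := fun φ (hφ : φ ∈ H.F) ω => H.Φ_eta h.pd.ti h.odd_W hη hV hφ ω
  have hcoef : ∀ φ ∈ H.F, classInner Γ (H.Φ φ) = (((H.d φ : ℤ) * c : ℤ) : ℂ) := by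
    intro φ hφ
    have e := hz hω₀ (H.comb φ)
    rw [H.tau_comb hφ, hT ω₀ hω₀] at e
    simp only [classInner_sub_right, classInner_zsmul_right, classInner_add_left, classInner_sub_left,
      classInner_symm_zero (H.Φ_triv hφ), classInner_symm_zero (H.Φ_triv H.mem₀),
      classInner_symm_zero (hΦη φ hφ ω₀), classInner_symm_zero (hΦη _ H.mem₀ ω₀), hc] at e
    push_cast at e ⊢
    linear_combination e
  refine ⟨c, fun ω hω => ?_, fun hcodd => ?_⟩
  · obtain ⟨k, hk⟩ := even_inner hoddG hΓ H.Δ_gc hΓr H.Δ_real hΓ1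
    refine ⟨k, ?_⟩
    have e := hz hω H.β
    rw [show dadeIsometry H.A H.X H.R H.β = H.T from rfl, H.T_eq, hT ω hω] at e
    simp only [classInner_add_left, classInner_sub_left, classInner_add_right, classInner_sub_right,
      inner_one_one, classInner_symm_zero (H.Φ_triv H.mem₀), classInner_symm_zero H.Δ_triv,
      eta_triv hη hω.1, classInner_symm_zero (hΦη _ H.mem₀ ω), classInner_symm_of_int (ha ω), hΓ1, hc,
      hk] at e
    have : ((a ω + c : ℤ) : ℂ) = ((2 * k + 1 : ℤ) : ℂ) := by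
      push_cast
      push_cast at e
      linear_combination -e
    exact_mod_cast this
  · have hω₁ : RowIdx ω₀⁻¹ :=
      ⟨fun e => hω₀.1 (MonoidHom.ext fun x => inv_eq_one.1 (DFunLike.congr_fun e x)),
        fun w hw => by rw [MonoidHom.inv_apply, hω₀.2 w hw, inv_one]⟩
    have hne : ω₀ ≠ ω₀⁻¹ := fun e => h.pd.not_sameCol_inv (h.not_col hω₀) (fun w _ => by rw [← e])
    let s : Finset (↥(W₁ ⊔ W₂) →* ℂˣ) := {ω₀, ω₀⁻¹}
    have hs : ∀ π ∈ s, RowIdx π := fun π hπ => by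
      simp only [s, Finset.mem_insert, Finset.mem_singleton] at hπ
      rcases hπ with rfl | rfl
      exacts [hω₀, hω₁]
    let w : (↥(W₁ ⊔ W₂) →* ℂˣ) ⊕ (↥H.X → ℂ) → G → ℂ := Sum.elim η H.Φ
    let b : (↥(W₁ ⊔ W₂) →* ℂˣ) ⊕ (↥H.X → ℂ) → ℤ := Sum.elim (fun _ => g) (fun φ => (H.d φ : ℤ) * c)
    have key := (sum_sq_le_norm (s.disjSum H.F) w (β := Γ) (c := b) ?_ ?_ ?_ hn).1
    · rw [Finset.sum_disjSum] at key
      simp only [w, b, Sum.elim_inl, Sum.elim_inr, s, Finset.sum_pair hne] at key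
      have hsum : ∑ φ ∈ H.F, ((H.d φ : ℤ) * c) ^ 2 = (H.N : ℤ) * c ^ 2 := by
        rw [Hub.N, Nat.cast_sum, Finset.sum_mul]
        exact Finset.sum_congr rfl fun φ _ => by push_cast; ring
      rw [hsum] at key
      have hgg : g ≤ g ^ 2 := by
        rcases le_or_gt g 0 with hg0 | hg0
        · nlinarith [sq_nonneg g]
        · nlinarith
      have hc1 : (1 : ℤ) ≤ c ^ 2 := by
        obtain ⟨k, rfl⟩ := hcodd
        exact Int.add_one_le_iff.2 (sq_pos_of_ne_zero (by omega))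
      have hNle : (H.N : ℤ) ≤ ((P.relIndex K / Nat.card W₁ : ℕ) : ℤ) := by
        nlinarith [mul_le_mul_of_nonneg_left hc1 (show (0 : ℤ) ≤ H.N by positivity)]
      have h1 := Nat.div_add_mod (P.relIndex K) (Nat.card W₁)
      rw [h.u_mod] at h1
      have h2 : Nat.card W₁ * H.N ≤ Nat.card W₁ * (P.relIndex K / Nat.card W₁) :=
        Nat.mul_le_mul_left _ (by exact_mod_cast hNle)
      omega
    · rintro (π | φ) hi
      · exact eta_self hη π
      · exact H.Φ_self (Finset.inr_mem_disjSum.1 hi)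
    · rintro (π | φ) hi (π' | φ') hj hne'
      · exact eta_orth hη fun e => hne' (by rw [e])
      · exact classInner_symm_zero (hΦη _ (Finset.inr_mem_disjSum.1 hj) π)
      · exact hΦη _ (Finset.inr_mem_disjSum.1 hi) π'
      · exact H.Φ_orth (Finset.inr_mem_disjSum.1 hi) (Finset.inr_mem_disjSum.1 hj) fun e => hne' (by rw [e])
    · rintro (π | φ) hi
      · exact hg π (hs π (Finset.inl_mem_disjSum.1 hi))
      · exact hcoef φ (Finset.inr_mem_disjSum.1 hi)

end Chars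

end Side

end Cfsg.Agent.Peterfalvi.Sec14
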