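import Cfsg.Agent.Lib.Peterfalvi.Sec14.Side

/-!
# Peterfalvi section 14: interchanging the two factors (owner: helper65)

* `family_swap` : a cyclic TI family for `W₁, W₂` is one for `W₂, W₁`
* `ColIdx`, `Side.hub_relation_swap` : the relation of the second side with a hub
-/

set_option autoImplicit false

namespace Cfsg.Agent.Peterfalvi.Sec14

open Cfsg Cfsg.Agent Cfsg.Agent.Char Cfsg.Agent.CyclicTI
open scoped ComplexConjugate

universe u

variable {G : Type u} [Group G] [Fintype G] {W₁ W₂ : Subgroup G}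

theorem indFun_congr {H H' : Subgroup G} (e : H = H') (f : ↥H' → ℂ) :
    indFun H (fun w => f (MulEquiv.subgroupCongr e w)) = indFun H' f := by
  subst e
  rfl

/-- A family for `W₁, W₂` gives one for `W₂, W₁`. -/
theorem family_swap {η : (↥(W₁ ⊔ W₂) →* ℂˣ) → G → ℂ} (hη : IsCyclicTIFamily W₁ W₂ η) :
    ∃ η' : (↥(W₂ ⊔ W₁) →* ℂˣ) → G → ℂ, IsCyclicTIFamily W₂ W₁ η' ∧
      ∀ ω : ↥(W₁ ⊔ W₂) →* ℂˣ,
        η' (ω.comp (MulEquiv.subgroupCongr (sup_comm W₂ W₁)).toMonoidHom) = η ω := by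
  set e := MulEquiv.subgroupCongr (sup_comm W₂ W₁) with he
  let η' : (↥(W₂ ⊔ W₁) →* ℂˣ) → G → ℂ := fun ω => η (ω.comp e.symm.toMonoidHom)
  have hinj : ∀ ω ω' : ↥(W₂ ⊔ W₁) →* ℂˣ, ω.comp e.symm.toMonoidHom = ω'.comp e.symm.toMonoidHom → ω = ω' :=
    fun ω ω' h => MonoidHom.ext fun w => by
      have := DFunLike.congr_fun h (e w)
      simpa using this
  refine ⟨η', ⟨fun ω => hη.irr_or_neg _, fun ω ω' => ?_, ?_, fun ω w h1 h2 => ?_, fun φ ψ hφ hψ h1 h2 => ?_⟩,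
    fun ω => ?_⟩
  · rw [hη.orthonormal]
    by_cases h : ω = ω'
    · rw [if_pos h, if_pos (by rw [h])]
    · rw [if_neg h, if_neg fun e' => h (hinj _ _ e')]
  · show η _ = _
    rw [MonoidHom.one_comp, hη.map_one]
  · show η _ _ = _
    have := hη.eq_on (ω.comp e.symm.toMonoidHom) (e w) h2 h1
    simpa [he] using this
  · have hne : ∀ ω : ↥(W₂ ⊔ W₁) →* ℂˣ, ω ≠ 1 → ω.comp e.symm.toMonoidHom ≠ 1 := fun ω h h' =>
      h (hinj ω 1 (by rw [h', MonoidHom.one_comp]))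
    have h := hη.induced_eq (ψ.comp e.symm.toMonoidHom) (φ.comp e.symm.toMonoidHom) (hne _ hψ) (hne _ hφ)
      (fun w hw => h2 (e.symm w) hw) (fun w hw => h1 (e.symm w) hw)
    rw [← indFun_congr (sup_comm W₂ W₁)] at h
    refine Eq.trans ?_ (h.trans ?_)
    · congr 1
      funext w
      simp only [MonoidHom.comp_apply, MulEquiv.coe_toMonoidHom, ← he, MulEquiv.symm_apply_apply]
      ring
    · funext g
      show 1 - η _ g - η _ g + η _ g = 1 - η _ g - η _ g + η _ g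
      rw [show (φ * ψ).comp e.symm.toMonoidHom = ψ.comp e.symm.toMonoidHom * φ.comp e.symm.toMonoidHom from
        MonoidHom.ext fun w => mul_comm _ _]
      ring
  · show η _ = _
    congr 1

/-- A nontrivial character trivial on `W₂`. -/
def ColIdx (ω : ↥(W₁ ⊔ W₂) →* ℂˣ) : Prop :=
  ω ≠ 1 ∧ ∀ w : ↥(W₁ ⊔ W₂), (w : G) ∈ W₂ → ω w = 1

/-- The relation of the second side with a hub. -/
theorem Side.hub_relation_swap {T K Q : Subgroup G} (hT : Side T K Q W₂ W₁)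
    (hoddG : Odd (Nat.card G)) {η : (↥(W₁ ⊔ W₂) →* ℂˣ) → G → ℂ}
    (hη : IsCyclicTIFamily W₁ W₂ η) (H : Hub G)
    (hd : ∀ g ∈ H.support, g ∉ Dade.support (sideA T Q W₂ W₁) (fun _ => ⊥))
    (a : (↥(W₁ ⊔ W₂) →* ℂˣ) → ℤ) (ha : ∀ π, classInner H.Δ (η π) = (a π : ℂ)) :
    ∃ c : ℤ, (∀ ω, ColIdx ω → Odd (a ω + c)) ∧
      (Odd c → Nat.card W₂ * H.N ≤ Q.relIndex K - 1) := by
  haveI := Fintype.ofFinite ↥T
  obtain ⟨η', hη', hη'eq⟩ := family_swap hη
  set e := MulEquiv.subgroupCongr (sup_comm W₂ W₁) with he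
  have hback : ∀ π : ↥(W₂ ⊔ W₁) →* ℂˣ,
      η' π = η (π.comp e.symm.toMonoidHom) := fun π => by
    rw [← hη'eq]
    congr 1
  obtain ⟨c, hc, hc2⟩ := hT.hub_relation hoddG hη' H hd (fun π => a (π.comp e.symm.toMonoidHom))
    fun π => by rw [hback, ha]
  refine ⟨c, fun ω hω => ?_, hc2⟩
  have h := hc (ω.comp e.toMonoidHom)
    ⟨fun h => hω.1 (MonoidHom.ext fun w => by simpa using DFunLike.congr_fun h (e.symm w)),
      fun w hw => hω.2 (e w) hw⟩
  rwa [show (ω.comp e.toMonoidHom).comp e.symm.toMonoidHom = ω from MonoidHom.ext fun w => by simp] at h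

end Cfsg.Agent.Peterfalvi.Sec14
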